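import Cfsg.Prelude.Def_GeometricClasses
import Cfsg.Agent.Lib.Geometry.OmegaMem
import Cfsg.Agent.Lib.Geometry.GeoOmega

/-!
Stabilisers of sets of vectors: the intermediate groups for the small imprimitive and tensor members.
-/

set_option autoImplicit false
set_option linter.unusedSectionVars false

namespace CfsgLib.NotMax

open QuadraticMap CfsgLib.Geometry
open scoped Matrix MatrixGroups

variable {F : Type*} [Field F] {ι : Type} [Fintype ι] [DecidableEq ι]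

theorem gl_inv_mulVec (g : GL ι F) (v : ι → F) :
    ((g⁻¹ : GL ι F) : Matrix ι ι F) *ᵥ ((g : Matrix ι ι F) *ᵥ v) = v := by
  rw [Matrix.mulVec_mulVec, ← Units.val_mul, inv_mul_cancel, Units.val_one, Matrix.one_mulVec]

theorem gl_mulVec_inv (g : GL ι F) (v : ι → F) :
    (g : Matrix ι ι F) *ᵥ (((g⁻¹ : GL ι F) : Matrix ι ι F) *ᵥ v) = v := by
  rw [Matrix.mulVec_mulVec, ← Units.val_mul, mul_inv_cancel, Units.val_one, Matrix.one_mulVec]

theorem gl_mulVec_injective (g : GL ι F) : Function.Injective ((g : Matrix ι ι F) *ᵥ ·) :=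
  fun x y h => by
    have := congrArg (((g⁻¹ : GL ι F) : Matrix ι ι F) *ᵥ ·) h
    simpa only [gl_inv_mulVec] using this

/-- The setwise stabiliser of a set of vectors. -/
def setStab (X : Set (ι → F)) : Subgroup (GL ι F) where
  carrier := {g | ∀ v, (g : Matrix ι ι F) *ᵥ v ∈ X ↔ v ∈ X}
  one_mem' := fun v => by simp
  mul_mem' := fun {a b} ha hb v => by rw [Units.val_mul, ← Matrix.mulVec_mulVec, ha, hb]
  inv_mem' := fun {a} ha v => by
    have h := ha (((a⁻¹ : GL ι F) : Matrix ι ι F) *ᵥ v)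
    rw [gl_mulVec_inv] at h
    exact h.symm

theorem mem_setStab_of_mapsTo [Finite F] {X : Set (ι → F)} {g : GL ι F}
    (h : ∀ v ∈ X, (g : Matrix ι ι F) *ᵥ v ∈ X) : g ∈ setStab X := by
  intro v
  refine ⟨fun hv => ?_, h v⟩
  have himg : ((g : Matrix ι ι F) *ᵥ ·) '' X = X :=
    Set.eq_of_subset_of_ncard_le (by rintro _ ⟨x, hx, rfl⟩; exact h x hx)
      (by rw [Set.ncard_image_of_injective X (gl_mulVec_injective g)]) (Set.toFinite X)
  rw [← himg] at hv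
  obtain ⟨x, hx, hxv⟩ := hv
  exact gl_mulVec_injective g hxv ▸ hx

/-- An intermediate group from an element of `K` outside `H` and one of `O` outside `K`. -/
theorem between {H K O : Subgroup (GL ι F)} (hle : H ⊓ O ≤ K) {g h : GL ι F} (hgK : g ∈ K)
    (hgO : g ∈ O) (hgH : g ∉ H) (hhO : h ∈ O) (hhK : h ∉ K) :
    ∃ M : Subgroup (GL ι F), H ⊓ O < M ∧ M < O :=
  ⟨K ⊓ O, lt_of_le_of_ne (le_inf hle inf_le_right) fun e => hgH (show g ∈ H ⊓ O from e.symm ▸ Subgroup.mem_inf.2 ⟨hgK, hgO⟩).1,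
    lt_of_le_of_ne inf_le_right fun e => hhK (show h ∈ K ⊓ O from e.symm ▸ hhO).1⟩

/-- As `between`, from `O` not being contained in `K`. -/
theorem between' {H K O : Subgroup (GL ι F)} (hle : H ⊓ O ≤ K) {g : GL ι F} (hgK : g ∈ K) (hgO : g ∈ O)
    (hgH : g ∉ H) (hOK : ¬ O ≤ K) : ∃ M : Subgroup (GL ι F), H ⊓ O < M ∧ M < O := by
  obtain ⟨h, hhO, hhK⟩ := SetLike.not_le_iff_exists.1 hOK
  exact between hle hgK hgO hgH hhO hhK

theorem mem_part_of_stab {t : ℕ} {D : Fin t → Submodule F (ι → F)} {g : GL ι F}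
    (hg : g ∈ Cfsg.Geo.decompositionStabilizer D) {i : Fin t} {v : ι → F} (_hv : v ∈ D i) :
    ∃ j, ∀ w ∈ D i, (g : Matrix ι ι F) *ᵥ w ∈ D j := by
  obtain ⟨σ, hσ⟩ := hg
  exact ⟨σ i, fun w hw => hσ i ▸ ⟨w, hw, Matrix.toLin'_apply _ _⟩⟩

variable {Q : QuadraticForm F (ι → F)}

theorem isometry_of_omega {g : GL ι F} (hg : g ∈ Cfsg.Geo.omegaGL ⇑Q) (v : ι → F) :
    Q ((g : Matrix ι ι F) *ᵥ v) = Q v := by
  obtain ⟨x, -, rfl⟩ := (omegaGL_eq_map Q ▸ hg : g ∈ (commutator (orth Q)).map (orthToGL Q))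
  rw [orthToGL_mulVec]
  exact x.2 v

theorem polar_of_omega {g : GL ι F} (hg : g ∈ Cfsg.Geo.omegaGL ⇑Q) (u v : ι → F) :
    polar Q ((g : Matrix ι ι F) *ᵥ u) ((g : Matrix ι ι F) *ᵥ v) = polar Q u v := by
  simp only [QuadraticMap.polar, ← Matrix.mulVec_add, isometry_of_omega hg]

theorem mem_omegaGL_of_mem {x : orth Q} (hx : x ∈ commutator (orth Q)) :
    orthToGL Q x ∈ Cfsg.Geo.omegaGL ⇑Q :=
  omegaGL_eq_map Q ▸ Subgroup.mem_map_of_mem _ hx

/-- The stabiliser of the vectors of value `a` lying in the parts contains the stabiliser of the parts. -/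
theorem stab_parts_le {t : ℕ} (D : Fin t → Submodule F (ι → F)) (p : (ι → F) → Prop)
    (hp : ∀ g ∈ Cfsg.Geo.omegaGL ⇑Q, ∀ v, p v → p ((g : Matrix ι ι F) *ᵥ v)) :
    Cfsg.Geo.decompositionStabilizer D ⊓ Cfsg.Geo.omegaGL ⇑Q ≤ setStab {v | (∃ i, v ∈ D i) ∧ p v} := by
  have key : ∀ g : GL ι F, g ∈ Cfsg.Geo.decompositionStabilizer D ⊓ Cfsg.Geo.omegaGL ⇑Q →
      ∀ v, ((∃ i, v ∈ D i) ∧ p v) → (∃ i, (g : Matrix ι ι F) *ᵥ v ∈ D i) ∧ p ((g : Matrix ι ι F) *ᵥ v) := by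
    rintro g ⟨hgD, hgO⟩ v ⟨⟨i, hi⟩, hpv⟩
    obtain ⟨j, hj⟩ := mem_part_of_stab hgD hi
    exact ⟨⟨j, hj v hi⟩, hp g hgO v hpv⟩
  intro g hg v
  refine ⟨fun hv => ?_, key g hg v⟩
  have := key g⁻¹ (inv_mem hg) _ hv
  rwa [gl_inv_mulVec] at this

/-- A product of two reflections in vectors of the same value lies in `Ω`. -/
theorem exists_reflPair [Finite F] (hQ : (polarBilin Q).Nondegenerate) (h2 : (2 : F) ≠ 0) {a b : ι → F}
    (ha : Q a ≠ 0) (hab : Q b = Q a) :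
    ∃ g ∈ Cfsg.Geo.omegaGL ⇑Q, ∀ v, (g : Matrix ι ι F) *ᵥ v =
      refl Q a ha (refl Q b (by rw [hab]; exact ha) v) := by
  have hR := reflGroup_eq_orth_of_two_ne hQ h2
  have hb : Q b ≠ 0 := by rw [hab]; exact ha
  refine ⟨orthToGL Q (oRefl Q a ha * oRefl Q b hb), mem_omegaGL_of_mem ?_, fun v => ?_⟩
  · refine (mem_commutator_orth_iff hQ hR _).2 ?_
    rw [map_mul, orthInvariant_oRefl hQ hR ha, orthInvariant_oRefl hQ hR hb]
    have he : sqMk hb = sqMk ha := by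
      unfold sqMk
      congr 1
      exact Units.ext hab
    rw [he]
    exact Prod.ext (sqClass_mul_self _)
      (show Multiplicative.ofAdd (1 : ZMod 2) * Multiplicative.ofAdd 1 = 1 by decide)
  · rw [orthToGL_mulVec]
    rfl

/-- A Siegel element lies in `Ω`. -/
theorem exists_siegel [Finite F] (hQ : (polarBilin Q).Nondegenerate) (hn : 5 ≤ Fintype.card ι)
    {u w : ι → F} (hu : Q u = 0) (huw : polar Q u w = 0) :
    ∃ g ∈ Cfsg.Geo.omegaGL ⇑Q, ∀ x, (g : Matrix ι ι F) *ᵥ x =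
      x + polar Q x u • w - (polar Q x w + Q w * polar Q x u) • u := by
  obtain ⟨s, hs, hsx⟩ := exists_omega_siegel hQ hn hu huw
  exact ⟨_, mem_omegaGL_of_mem hs, fun x => by rw [orthToGL_mulVec]; exact hsx x⟩

end CfsgLib.NotMax
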