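import Cfsg.Agent.Lib.NotMax.Lines

/-!
Orthogonal decompositions into small plus-type spaces over the fields of two and four elements.
-/

set_option autoImplicit false
set_option linter.unusedSectionVars false

namespace CfsgLib.NotMax

open QuadraticMap CfsgLib.Geometry
open scoped Matrix MatrixGroups

variable {F : Type*} [Field F] {ι : Type} [Fintype ι] [DecidableEq ι]
variable {Q : QuadraticForm F (ι → F)} {W : Submodule F (ι → F)}

theorem polar_self_char_two [CharP F 2] (v : ι → F) : polar Q v v = 0 := by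
  rw [polar_self', CharTwo.two_eq_zero, zero_mul]

theorem vec_add_self [CharP F 2] (v : ι → F) : v + v = 0 := by
  rw [← two_smul F, CharTwo.two_eq_zero, zero_smul]

theorem vec_neg [CharP F 2] (v : ι → F) : -v = v := by
  rw [← neg_one_smul F v, CharTwo.neg_eq, one_smul]

theorem vec_sub [CharP F 2] (v w : ι → F) : v - w = v + w := by rw [sub_eq_add_neg, vec_neg]

/-- A singular vector with a non-orthogonal vector of `W` has a hyperbolic partner in `W`. -/
theorem exists_pair_in {e x : ι → F} (he : e ∈ W) (hx : x ∈ W) (hQe : Q e = 0) (hex : polar Q e x ≠ 0) :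
    ∃ a b : F, a • x + b • e ∈ W ∧ Q (a • x + b • e) = 0 ∧ polar Q e (a • x + b • e) = 1 := by
  refine ⟨(polar Q e x)⁻¹, -((polar Q e x)⁻¹ * (polar Q e x)⁻¹ * Q x),
    W.add_mem (W.smul_mem _ hx) (W.smul_mem _ he), ?_, ?_⟩
  · rw [map_add', map_smul', map_smul', polar_smul_left', polar_smul_right', hQe, polar_comm Q x e]
    field_simp
    ring
  · rw [polar_add_right, polar_smul_right', polar_smul_right', polar_self', hQe]
    field_simp
    ring

/-- A hyperbolic basis of a plus plane. -/
theorem exists_hyp_plane (hk : Module.finrank F W = 2) (hW : Cfsg.Geo.IsNondegenerateOn (polar ⇑Q) W)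
    (hp : Cfsg.Geo.IsPlusTypeOn ⇑Q W) :
    ∃ e f, e ∈ W ∧ f ∈ W ∧ Q e = 0 ∧ Q f = 0 ∧ polar Q e f = 1 ∧
      ∀ v ∈ W, v = polar Q v f • e + polar Q v e • f := by
  obtain ⟨U, hU, hts, hdim⟩ := hp
  rw [hk] at hdim
  obtain ⟨e, heU, he0⟩ := Submodule.exists_mem_ne_zero_of_ne_bot (p := U) fun h => by
    rw [h, finrank_bot] at hdim; omega
  obtain ⟨-, x, hx, hx0⟩ := hW e (hU heU) he0
  obtain ⟨a, b, hf, hQf, hef⟩ := exists_pair_in (hU heU) hx (hts e heU) hx0
  set f := a • x + b • e
  have hQe : Q e = 0 := hts e heU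
  have hfe : polar Q f e = 1 := by rw [polar_comm]; exact hef
  have hee : polar Q e e = 0 := by rw [polar_self', hQe, mul_zero]
  have hff : polar Q f f = 0 := by rw [polar_self', hQf, mul_zero]
  have hli : LinearIndependent F ![e, f] := LinearIndependent.pair_iff.2 fun c d hcd => by
    have h1 := congrArg (fun z => polar Q z f) hcd
    have h2 := congrArg (fun z => polar Q z e) hcd
    simp only [polar_add_left, polar_smul_left', hef, hff, hfe, hee, polar_zero_left] at h1 h2
    exact ⟨by linear_combination h1, by linear_combination h2⟩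
  have hspan : Submodule.span F (Set.range ![e, f]) = W := Submodule.eq_of_le_of_finrank_eq
    (Submodule.span_le.2 (by rintro _ ⟨j, rfl⟩; fin_cases j; exacts [hU heU, hf]))
    (by rw [finrank_span_eq_card hli, Fintype.card_fin, hk])
  refine ⟨e, f, hU heU, hf, hQe, hQf, hef, fun v hv => ?_⟩
  rw [← hspan] at hv
  obtain ⟨c, rfl⟩ := (Submodule.mem_span_range_iff_exists_fun F).1 hv
  simp [Fin.sum_univ_two, polar_add_left, polar_smul_left', hef, hfe, hee, hff]

/-- A hyperbolic basis of a plus four-space. -/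
theorem exists_hyp_four (hk : Module.finrank F W = 4) (hW : Cfsg.Geo.IsNondegenerateOn (polar ⇑Q) W)
    (hp : Cfsg.Geo.IsPlusTypeOn ⇑Q W) :
    ∃ e f e' f', e ∈ W ∧ f ∈ W ∧ e' ∈ W ∧ f' ∈ W ∧ Q e = 0 ∧ Q f = 0 ∧ Q e' = 0 ∧ Q f' = 0 ∧
      polar Q e f = 1 ∧ polar Q e' f' = 1 ∧ polar Q e e' = 0 ∧ polar Q e f' = 0 ∧
      polar Q f e' = 0 ∧ polar Q f f' = 0 ∧
      ∀ v ∈ W, v = polar Q v f • e + polar Q v e • f + polar Q v f' • e' + polar Q v e' • f' := by
  obtain ⟨U, hU, hts, hdim⟩ := hp
  rw [hk] at hdim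
  have hU2 : Module.finrank F U = 2 := by omega
  obtain ⟨e, heU, he0⟩ := Submodule.exists_mem_ne_zero_of_ne_bot (p := U) fun h => by
    rw [h, finrank_bot] at hU2; omega
  obtain ⟨-, x, hx, hx0⟩ := hW e (hU heU) he0
  obtain ⟨a, b, hf, hQf, hef⟩ := exists_pair_in (hU heU) hx (hts e heU) hx0
  set f := a • x + b • e
  obtain ⟨c, hcU, hc⟩ : ∃ c ∈ U, c ∉ Submodule.span F {e} := by
    by_contra hall
    push Not at hall
    have := Submodule.finrank_mono (show U ≤ Submodule.span F {e} from hall)
    rw [finrank_span_singleton he0] at this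
    omega
  have hQe : Q e = 0 := hts e heU
  have hfe : polar Q f e = 1 := by rw [polar_comm]; exact hef
  have hee : polar Q e e = 0 := by rw [polar_self', hQe, mul_zero]
  have hff : polar Q f f = 0 := by rw [polar_self', hQf, mul_zero]
  set e' := c - polar Q c f • e
  have he'U : e' ∈ U := U.sub_mem hcU (U.smul_mem _ heU)
  have he'0 : e' ≠ 0 := fun h => hc (by
    rw [sub_eq_zero.1 h]; exact Submodule.smul_mem _ _ (Submodule.mem_span_singleton_self e))
  have hUU : ∀ u ∈ U, ∀ v ∈ U, polar Q u v = 0 := fun u hu v hv => by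
    simp only [QuadraticMap.polar, hts _ (U.add_mem hu hv), hts u hu, hts v hv, sub_zero]
  have hee' : polar Q e e' = 0 := hUU e heU e' he'U
  have he'e : polar Q e' e = 0 := hUU e' he'U e heU
  have he'f : polar Q e' f = 0 := by
    simp only [e', polar_sub_left, polar_smul_left', hef]; ring
  have hfe' : polar Q f e' = 0 := by rw [polar_comm]; exact he'f
  obtain ⟨-, y, hy, hy0⟩ := hW e' (hU he'U) he'0
  set y' := y - polar Q y f • e - polar Q y e • f
  have hy'W : y' ∈ W := W.sub_mem (W.sub_mem hy (W.smul_mem _ (hU heU))) (W.smul_mem _ hf)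
  have hy'e : polar Q y' e = 0 := by
    simp only [y', polar_sub_left, polar_smul_left', hee, hfe]; ring
  have hy'f : polar Q y' f = 0 := by
    simp only [y', polar_sub_left, polar_smul_left', hef, hff]; ring
  have he'y : polar Q e' y' ≠ 0 := by
    simpa only [y', polar_sub_right, polar_smul_right', he'e, he'f, mul_zero, sub_zero] using hy0
  obtain ⟨a', b', hf', hQf', hef'⟩ := exists_pair_in (hU he'U) hy'W (hts e' he'U) he'y
  set f' := a' • y' + b' • e'
  have hef₂ : polar Q e f' = 0 := by
    simp only [f', polar_add_right, polar_smul_right', hee', polar_comm Q e y', hy'e]; ring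
  have hff₂ : polar Q f f' = 0 := by
    simp only [f', polar_add_right, polar_smul_right', hfe', polar_comm Q f y', hy'f]; ring
  have hf'e' : polar Q f' e' = 1 := by rw [polar_comm]; exact hef'
  have hf'e : polar Q f' e = 0 := by rw [polar_comm]; exact hef₂
  have hf'f : polar Q f' f = 0 := by rw [polar_comm]; exact hff₂
  have he'e' : polar Q e' e' = 0 := hUU e' he'U e' he'U
  have hf'f' : polar Q f' f' = 0 := by rw [polar_self', hQf', mul_zero]
  have hli : LinearIndependent F ![e, f, e', f'] := by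
    rw [Fintype.linearIndependent_iff]
    intro g hg
    simp [Fin.sum_univ_four] at hg
    have h0 := congrArg (fun z => polar Q z f) hg
    have h1 := congrArg (fun z => polar Q z e) hg
    have h2 := congrArg (fun z => polar Q z f') hg
    have h3 := congrArg (fun z => polar Q z e') hg
    simp only [polar_add_left, polar_smul_left', polar_zero_left, hef, hfe, hee, hff, he'f, he'e, hf'f, hf'e,
      hef₂, hff₂, hef', hf'f', hee', hfe', he'e', hf'e'] at h0 h1 h2 h3
    intro i
    fin_cases i
    · show g 0 = 0; linear_combination h0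
    · show g 1 = 0; linear_combination h1
    · show g 2 = 0; linear_combination h2
    · show g 3 = 0; linear_combination h3
  have hspan : Submodule.span F (Set.range ![e, f, e', f']) = W := Submodule.eq_of_le_of_finrank_eq
    (Submodule.span_le.2 (by rintro _ ⟨j, rfl⟩; fin_cases j; exacts [hU heU, hf, hU he'U, hf']))
    (by rw [finrank_span_eq_card hli, Fintype.card_fin, hk])
  refine ⟨e, f, e', f', hU heU, hf, hU he'U, hf', hQe, hQf, hts e' he'U, hQf', hef, hef', hee', hef₂, hfe', hff₂,
    fun v hv => ?_⟩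
  rw [← hspan] at hv
  obtain ⟨g, rfl⟩ := (Submodule.mem_span_range_iff_exists_fun F).1 hv
  simp [Fin.sum_univ_four, polar_add_left, polar_smul_left', hef, hfe, hee, hff, he'f, he'e, hf'f, hf'e,
    hef₂, hff₂, hef', hf'f', hee', hfe', he'e', hf'e']

variable {t : ℕ} {D : Fin t → Submodule F (ι → F)}

theorem not_in_parts (ho : ∀ i j, i ≠ j → Cfsg.Geo.AreOrthogonalFor (polar ⇑Q) (D i) (D j)) {v x y : ι → F}
    {i j : Fin t} (hij : i ≠ j) (hx : x ∈ D i) (hy : y ∈ D j) (hvx : polar Q v x ≠ 0)
    (hvy : polar Q v y ≠ 0) : ¬ ∃ l, v ∈ D l := by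
  rintro ⟨l, hl⟩
  by_cases h : l = i
  · exact hvy (ho l j (h ▸ hij) v hl y hy)
  · exact hvx (ho l i h v hl x hx)

theorem escape (hind : iSupIndep D) (ho : ∀ i j, i ≠ j → Cfsg.Geo.AreOrthogonalFor (polar ⇑Q) (D i) (D j))
    {g : GL ι F} {a b x : ι → F} {i j : Fin t} (hij : i ≠ j) (ha : a ∈ D i) (ha0 : a ≠ 0) (hb : b ∈ D i)
    (hga : (g : Matrix ι ι F) *ᵥ a = a) (hx : x ∈ D j)
    (hgb : polar Q ((g : Matrix ι ι F) *ᵥ b) x ≠ 0) : g ∉ Cfsg.Geo.decompositionStabilizer D := fun hg => by
  obtain ⟨l, hl⟩ := mem_part_of_stab hg ha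
  have h1 := hl a ha
  rw [hga] at h1
  obtain rfl := parts_eq_of_mem hind ha0 ha h1
  exact hgb (ho i j hij _ (hl b hb) x hx)

theorem char_two_of_card [Fintype F] (hq : Fintype.card F = 2 ∨ Fintype.card F = 4) : CharP F 2 := by
  rcases hq with h | h
  · exact charP_of_card_eq_prime h
  · exact charP_of_card_eq_prime_pow (p := 2) (f := 2) (by rw [h]; norm_num)

theorem zero_or_one [Fintype F] (hq : Fintype.card F = 2) (y : F) : y = 0 ∨ y = 1 := by
  by_cases hy : y = 0
  · exact Or.inl hy
  · have := FiniteField.pow_card_sub_one_eq_one y hy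
    rw [hq, pow_one] at this
    exact Or.inr this

variable [Fintype F] {k : ℕ}

/-- The stabiliser of the non-singular vectors lying in the parts, over the field of two elements. -/
theorem two_elements_not_maximal (hQ : (polarBilin Q).Nondegenerate) (hn : 13 ≤ Fintype.card ι)
    (hD : Cfsg.Geo.IsOrthogonalMDecomposition ⇑Q k D) (hplus : ∀ i, Cfsg.Geo.IsPlusTypeOn ⇑Q (D i))
    (hq : Fintype.card F = 2) (hk : (k = 2 ∧ 4 ≤ t) ∨ k = 4) :
    ∃ K : Subgroup (GL ι F), Cfsg.Geo.decompositionStabilizer D ⊓ Cfsg.Geo.omegaGL ⇑Q < K ∧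
      K < Cfsg.Geo.omegaGL ⇑Q := by
  haveI := char_two_of_card (F := F) (Or.inl hq)
  have hn5 : 5 ≤ Fintype.card ι := by omega
  have ho := hD.decomp.orthogonal
  have hind := hD.decomp.decomp.indep
  have ht2 := hD.decomp.decomp.two_le
  set X : Set (ι → F) := {v | (∃ i, v ∈ D i) ∧ Q v = 1}
  have hle : Cfsg.Geo.decompositionStabilizer D ⊓ Cfsg.Geo.omegaGL ⇑Q ≤ setStab X :=
    stab_parts_le D (fun v => Q v = 1) fun x hx v hv => by rw [isometry_of_omega hx, hv]
  let i0 : Fin t := ⟨0, by omega⟩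
  let i1 : Fin t := ⟨1, by omega⟩
  have h01 : i0 ≠ i1 := by simp [i0, i1, Fin.ext_iff]
  -- moving a vector off the family
  have hoff : ∀ {v e₀ e₁ f₁ : ι → F}, e₀ ∈ D i0 → v ∈ D i0 → e₁ ∈ D i1 → f₁ ∈ D i1 → Q e₀ = 0 → Q e₁ = 0 →
      Q v = 1 → polar Q v e₀ = 1 → polar Q e₁ f₁ = 1 →
      ∃ h ∈ Cfsg.Geo.omegaGL ⇑Q, h ∉ setStab X := by
    intro v e₀ e₁ f₁ he₀ hv he₁ hf₁ hQe₀ hQe₁ hQv hve hef
    obtain ⟨h, hhO, hh⟩ := exists_siegel hQ hn5 hQe₀ (w := e₁) (ho i0 i1 h01 _ he₀ _ he₁)
    refine ⟨h, hhO, fun hK => ?_⟩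
    have := (hK v).2 ⟨⟨i0, hv⟩, hQv⟩
    rw [hh, hve, ho i0 i1 h01 v hv e₁ he₁, hQe₁, one_smul, mul_one, add_zero, zero_smul, sub_zero] at this
    refine not_in_parts ho h01 he₀ hf₁ ?_ ?_ this.1
    · rw [polar_add_left, hve, ho i1 i0 h01.symm _ he₁ _ he₀, add_zero]; exact one_ne_zero
    · rw [polar_add_left, ho i0 i1 h01 v hv f₁ hf₁, hef, zero_add]; exact one_ne_zero
  rcases hk with ⟨rfl, ht⟩ | rfl
  · choose e f he hf hQe hQf hef hexp using fun i =>
      exists_hyp_plane (hD.decomp.decomp.finrank_eq i) (hD.decomp.nondegenerate i) (hplus i)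
    let u : Fin t → ι → F := fun i => e i + f i
    have hu : ∀ i, u i ∈ D i := fun i => (D i).add_mem (he i) (hf i)
    have hQu : ∀ i, Q (u i) = 1 := fun i => by simp only [u]; rw [map_add', hQe, hQf, hef]; ring
    have huX : ∀ v ∈ X, ∃ i, v = u i := by
      rintro v ⟨⟨i, hi⟩, hv⟩
      refine ⟨i, ?_⟩
      have hv' := hexp i v hi
      rcases zero_or_one hq (polar Q v (f i)) with a | a <;> rcases zero_or_one hq (polar Q v (e i)) with b | b <;>
        rw [a, b] at hv'
      · simp [hv'] at hv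
      · simp [hv', hQf] at hv
      · simp [hv', hQe] at hv
      · simpa [u] using hv'
    have hpu : ∀ i j, polar Q (u i) (u j) = 0 := fun i j => by
      by_cases h : i = j
      · subst h; exact polar_self_char_two _
      · exact ho i j h _ (hu i) _ (hu j)
    let i2 : Fin t := ⟨2, by omega⟩
    let i3 : Fin t := ⟨3, by omega⟩
    have hs : Q (u i0 + u i1) = 0 := by
      rw [map_add', hQu, hQu, hpu, add_zero, one_add_one_eq_two, CharTwo.two_eq_zero]
    have hst : polar Q (u i0 + u i1) (u i2 + u i3) = 0 := by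
      simp only [polar_add_left, polar_add_right, hpu, add_zero]
    obtain ⟨g, hgO, hg⟩ := exists_siegel hQ hn5 hs hst
    have hgu : ∀ i, (g : Matrix ι ι F) *ᵥ u i = u i := fun i => by
      simp [hg, polar_add_right, hpu]
    have hgX : g ∈ setStab X := mem_setStab_of_mapsTo fun v hv => by
      obtain ⟨i, rfl⟩ := huX v hv
      rwa [hgu]
    have h02 : i0 ≠ i2 := by simp [i0, i2, Fin.ext_iff]
    have h03 : i0 ≠ i3 := by simp [i0, i3, Fin.ext_iff]
    have h32 : i3 ≠ i2 := by simp [i3, i2, Fin.ext_iff]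
    have h12 : i1 ≠ i2 := by simp [i1, i2, Fin.ext_iff]
    have hu0 : u i0 ≠ 0 := fun h => one_ne_zero (α := F) (by rw [← hQu i0, h, QuadraticMap.map_zero])
    have hgD : g ∉ Cfsg.Geo.decompositionStabilizer D := by
      refine escape hind ho h02 (hu i0) hu0 (he i0) (hgu i0) (he i2) ?_
      have p : polar Q (u i2) (e i2) = 1 := by
        simp only [u]; rw [polar_add_left, polar_self_char_two, zero_add, polar_comm]; exact hef i2
      have p' : polar Q (e i0) (u i0) = 1 := by
        simp only [u]; rw [polar_add_right, polar_self_char_two, zero_add]; exact hef i0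
      rw [hg]
      simp only [polar_add_left, polar_sub_left, polar_smul_left', polar_add_right, p', p,
        ho i0 i1 h01 _ (he i0) _ (hu i1), ho i0 i2 h02 _ (he i0) _ (he i2),
        ho i3 i2 h32 _ (hu i3) _ (he i2), ho i0 i2 h02 _ (hu i0) _ (he i2),
        ho i1 i2 h12 _ (hu i1) _ (he i2), add_zero, mul_zero, mul_one, one_mul, sub_zero, zero_add]
      exact one_ne_zero
    obtain ⟨h, hhO, hhK⟩ := hoff (he i0) (hu i0) (he i1) (hf i1) (hQe _) (hQe _) (hQu _)
      (by simp only [u]; rw [polar_add_left, polar_self_char_two, zero_add, polar_comm]; exact hef i0) (hef i1)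
    exact between hle hgX hgO hgD hhO hhK
  · choose e f e' f' he hf he' hf' hQe hQf hQe' hQf' hef hef' hee' hef₂ hfe' hff₂ hexp using fun i =>
      exists_hyp_four (hD.decomp.decomp.finrank_eq i) (hD.decomp.nondegenerate i) (hplus i)
    -- the two minus planes of a part
    let p : Fin t → ι → F := fun i => e i + f i
    let p' : Fin t → ι → F := fun i => e i + (e' i + f' i)
    let r : Fin t → ι → F := fun i => e' i + f' i
    let r' : Fin t → ι → F := fun i => e' i + (e i + f i)
    have hp : ∀ i, p i ∈ D i := fun i => (D i).add_mem (he i) (hf i)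
    have hr : ∀ i, r i ∈ D i := fun i => (D i).add_mem (he' i) (hf' i)
    have hp' : ∀ i, p' i ∈ D i := fun i => (D i).add_mem (he i) (hr i)
    have hr' : ∀ i, r' i ∈ D i := fun i => (D i).add_mem (he' i) (hp i)
    have cfe : ∀ i, polar Q (f i) (e i) = 1 := fun i => by rw [polar_comm]; exact hef i
    have cfe' : ∀ i, polar Q (f' i) (e' i) = 1 := fun i => by rw [polar_comm]; exact hef' i
    have c1 : ∀ i, polar Q (e' i) (e i) = 0 := fun i => by rw [polar_comm]; exact hee' i
    have c2 : ∀ i, polar Q (f' i) (e i) = 0 := fun i => by rw [polar_comm]; exact hef₂ i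
    have c3 : ∀ i, polar Q (e' i) (f i) = 0 := fun i => by rw [polar_comm]; exact hfe' i
    have c4 : ∀ i, polar Q (f' i) (f i) = 0 := fun i => by rw [polar_comm]; exact hff₂ i
    have two0 : (1 : F) + 1 = 0 := CharTwo.add_self_eq_zero 1
    have hpp' : ∀ i, polar Q (p i) (p' i) = 1 := fun i => by
      simp [p, p', polar_add_left, polar_add_right, polar_self_char_two, CharTwo.two_eq_zero, cfe, hee', hef₂, hfe', hff₂]
    have hpr : ∀ i, polar Q (p i) (r i) = 0 := fun i => by
      simp [p, r, polar_add_left, polar_add_right, hee', hef₂, hfe', hff₂]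
    have hpr' : ∀ i, polar Q (p i) (r' i) = 0 := fun i => by
      simp [p, r', polar_add_left, polar_add_right, polar_self_char_two, CharTwo.two_eq_zero, hee', hfe', hef, cfe, two0]
    have hp'r : ∀ i, polar Q (p' i) (r i) = 0 := fun i => by
      simp [p', r, polar_add_left, polar_add_right, polar_self_char_two, CharTwo.two_eq_zero, hee', hef₂, hef', cfe', two0]
    have hp'r' : ∀ i, polar Q (p' i) (r' i) = 0 := fun i => by
      simp [p', r', polar_add_left, polar_add_right, polar_self_char_two, CharTwo.two_eq_zero, hee', hef, cfe', c1, c2, c3, c4, two0]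
    have hQp : ∀ i, Q (p i) = 1 := fun i => by simp only [p]; rw [map_add', hQe, hQf, hef]; ring
    have hQp' : ∀ i, Q (p' i) = 1 := fun i => by
      simp only [p']
      rw [map_add', map_add', hQe, hQe', hQf', hef', polar_add_right, hee', hef₂]; ring
    -- a Siegel element exchanging the first minus planes of two parts
    have hs : Q (p i0 + p i1) = 0 := by
      rw [map_add', hQp, hQp, ho i0 i1 h01 _ (hp i0) _ (hp i1), add_zero, two0]
    have hst : polar Q (p i0 + p i1) (p' i0 + p' i1) = 0 := by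
      simp only [polar_add_left, polar_add_right, hpp', ho i0 i1 h01 _ (hp i0) _ (hp' i1),
        ho i1 i0 h01.symm _ (hp i1) _ (hp' i0), add_zero, zero_add, two0]
    have hQt : Q (p' i0 + p' i1) = 0 := by
      rw [map_add', hQp', hQp', ho i0 i1 h01 _ (hp' i0) _ (hp' i1), add_zero, two0]
    obtain ⟨g, hgO, hg⟩ := exists_siegel hQ hn5 hs hst
    have hp'p : ∀ i, polar Q (p' i) (p i) = 1 := fun i => by rw [polar_comm]; exact hpp' i
    have hrp : ∀ i, polar Q (r i) (p i) = 0 := fun i => by rw [polar_comm]; exact hpr i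
    have hrp' : ∀ i, polar Q (r i) (p' i) = 0 := fun i => by rw [polar_comm]; exact hp'r i
    have hr'p : ∀ i, polar Q (r' i) (p i) = 0 := fun i => by rw [polar_comm]; exact hpr' i
    have hr'p' : ∀ i, polar Q (r' i) (p' i) = 0 := fun i => by rw [polar_comm]; exact hp'r' i
    have gfix : ∀ x, polar Q x (p i0) = 0 → polar Q x (p i1) = 0 → polar Q x (p' i0) = 0 → polar Q x (p' i1) = 0 →
        (g : Matrix ι ι F) *ᵥ x = x := fun x a b c d => by
      simp [hg, polar_add_right, a, b, c, d]
    have gp0 : (g : Matrix ι ι F) *ᵥ p i0 = p i1 := by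
      simp [hg, polar_add_right, polar_self_char_two, CharTwo.two_eq_zero, hpp', ho i0 i1 h01 _ (hp i0) _ (hp i1),
        ho i0 i1 h01 _ (hp i0) _ (hp' i1), vec_neg]
    have gp1 : (g : Matrix ι ι F) *ᵥ p i1 = p i0 := by
      simp [hg, polar_add_right, polar_self_char_two, CharTwo.two_eq_zero, hpp', ho i1 i0 h01.symm _ (hp i1) _ (hp i0),
        ho i1 i0 h01.symm _ (hp i1) _ (hp' i0), vec_neg, vec_sub]
    have gq0 : (g : Matrix ι ι F) *ᵥ p' i0 = p' i1 := by
      simp [hg, hQt, polar_add_right, polar_self_char_two, CharTwo.two_eq_zero, hp'p, ho i0 i1 h01 _ (hp' i0) _ (hp i1),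
        ho i0 i1 h01 _ (hp' i0) _ (hp' i1), ← add_assoc, vec_add_self]
    have gq1 : (g : Matrix ι ι F) *ᵥ p' i1 = p' i0 := by
      simp [hg, hQt, polar_add_right, polar_self_char_two, CharTwo.two_eq_zero, hp'p, ho i1 i0 h01.symm _ (hp' i1) _ (hp i0),
        ho i1 i0 h01.symm _ (hp' i1) _ (hp' i0)]
      rw [add_left_comm, vec_add_self, add_zero]
    have gfar : ∀ i, i ≠ i0 → i ≠ i1 → ∀ x ∈ D i, (g : Matrix ι ι F) *ᵥ x = x := fun i h0 h1 x hx =>
      gfix x (ho i i0 h0 x hx _ (hp _)) (ho i i1 h1 x hx _ (hp _)) (ho i i0 h0 x hx _ (hp' _))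
        (ho i i1 h1 x hx _ (hp' _))
    have gr : ∀ i x, x ∈ D i → polar Q x (p i) = 0 → polar Q x (p' i) = 0 → (g : Matrix ι ι F) *ᵥ x = x := by
      intro i x hx a b
      refine gfix x ?_ ?_ ?_ ?_
      all_goals (first
        | (by_cases h : i = i0
           · subst h; assumption
           · exact ho i i0 h x hx _ (by first | exact hp _ | exact hp' _))
        | (by_cases h : i = i1
           · subst h; assumption
           · exact ho i i1 h x hx _ (by first | exact hp _ | exact hp' _)))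
    have hgP : ∀ i, ∃ j, (g : Matrix ι ι F) *ᵥ p i = p j ∧ (g : Matrix ι ι F) *ᵥ p' i = p' j := fun i => by
      by_cases h0 : i = i0
      · exact ⟨i1, h0 ▸ gp0, h0 ▸ gq0⟩
      by_cases h1 : i = i1
      · exact ⟨i0, h1 ▸ gp1, h1 ▸ gq1⟩
      exact ⟨i, gfar i h0 h1 _ (hp i), gfar i h0 h1 _ (hp' i)⟩
    have gr1 : ∀ i, (g : Matrix ι ι F) *ᵥ r i = r i := fun i => gr i _ (hr i) (hrp i) (hrp' i)
    have gr2 : ∀ i, (g : Matrix ι ι F) *ᵥ r' i = r' i := fun i => gr i _ (hr' i) (hr'p i) (hr'p' i)
    have hsix : ∀ v ∈ X, ∃ i, v = p i ∨ v = p' i ∨ v = p i + p' i ∨ v = r i ∨ v = r' i ∨ v = r i + r' i := by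
      rintro v ⟨⟨i, hi⟩, hv⟩
      refine ⟨i, ?_⟩
      have hv' := hexp i v hi
      have hQs : Q v = polar Q v (f i) * polar Q v (e i) + polar Q v (f' i) * polar Q v (e' i) := by
        conv_lhs => rw [hv']
        simp only [map_add', map_smul', polar_add_left, polar_smul_left', polar_smul_right', hQe, hQf, hQe',
          hQf', hef, hef', hee', hef₂, hfe', hff₂]
        ring
      rw [hQs] at hv
      have ecancel : ∀ a b c : ι → F, a + b + (a + c) = b + c := fun a b c => by
        rw [add_add_add_comm, vec_add_self, zero_add]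
      rcases zero_or_one hq (polar Q v (f i)) with a | a <;> rcases zero_or_one hq (polar Q v (e i)) with b | b <;>
        rcases zero_or_one hq (polar Q v (f' i)) with c | c <;> rcases zero_or_one hq (polar Q v (e' i)) with d | d <;>
        rw [a, b, c, d] at hv hv' <;>
        simp only [zero_mul, mul_zero, one_mul, add_zero, zero_add, two0, zero_ne_one, zero_smul, one_smul]
          at hv hv' <;>
        first
          | contradiction
          | (subst hv'; left; simp only [p]; done)
          | (subst hv'; right; left; simp only [p']; abel1)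
          | (subst hv'; right; right; left; simp only [p, p']; rw [ecancel]; abel1)
          | (subst hv'; right; right; right; left; simp only [r]; done)
          | (subst hv'; right; right; right; right; left; simp only [r']; abel1)
          | (subst hv'; right; right; right; right; right; simp only [r, r']; rw [ecancel]; abel1)
    have hgX : g ∈ setStab X := mem_setStab_of_mapsTo fun v hv => by
      refine ⟨?_, by rw [isometry_of_omega hgO]; exact hv.2⟩
      obtain ⟨i, hi⟩ := hsix v hv
      obtain ⟨j, ja, jb⟩ := hgP i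
      rcases hi with rfl | rfl | rfl | rfl | rfl | rfl
      · exact ⟨j, ja ▸ hp j⟩
      · exact ⟨j, jb ▸ hp' j⟩
      · exact ⟨j, by rw [Matrix.mulVec_add, ja, jb]; exact (D j).add_mem (hp j) (hp' j)⟩
      · exact ⟨i, by rw [gr1]; exact hr i⟩
      · exact ⟨i, by rw [gr2]; exact hr' i⟩
      · exact ⟨i, by rw [Matrix.mulVec_add, gr1, gr2]; exact (D i).add_mem (hr i) (hr' i)⟩
    have hr0 : r i0 ≠ 0 := fun h => one_ne_zero (α := F) (by
      have : polar Q (r i0) (e' i0) = 1 := by simp [r, polar_add_left, polar_self_char_two, CharTwo.two_eq_zero, cfe']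
      rw [h, polar_zero_left] at this
      exact this.symm)
    have hgD : g ∉ Cfsg.Geo.decompositionStabilizer D :=
      escape hind ho h01 (hr i0) hr0 (hp i0) (gr1 i0) (hp' i1) (by rw [gp0, hpp']; exact one_ne_zero)
    obtain ⟨h, hhO, hhK⟩ := hoff (he i0) (hp i0) (he i1) (hf i1) (hQe _) (hQe _) (hQp _)
      (by simp only [p]; rw [polar_add_left, polar_self_char_two, zero_add]; exact cfe i0) (hef i1)
    exact between hle hgX hgO hgD hhO hhK

/-- Plus planes over the field of four elements carry a structure over the prime field. -/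
theorem four_elements_not_maximal (hQ : (polarBilin Q).Nondegenerate) (hn : 13 ≤ Fintype.card ι)
    (hD : Cfsg.Geo.IsOrthogonalMDecomposition ⇑Q 2 D) (hplus : ∀ i, Cfsg.Geo.IsPlusTypeOn ⇑Q (D i))
    (hq : Fintype.card F = 4) (ht : 4 ≤ t) :
    ∃ K : Subgroup (GL ι F), Cfsg.Geo.decompositionStabilizer D ⊓ Cfsg.Geo.omegaGL ⇑Q < K ∧
      K < Cfsg.Geo.omegaGL ⇑Q := by
  classical
  haveI := char_two_of_card (F := F) (Or.inr hq)
  have hn5 : 5 ≤ Fintype.card ι := by omega
  have ho := hD.decomp.orthogonal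
  have hind := hD.decomp.decomp.indep
  choose e f he hf hQe hQf hef hexp using fun i =>
    exists_hyp_plane (hD.decomp.decomp.finrank_eq i) (hD.decomp.nondegenerate i) (hplus i)
  set X : Set (ι → F) := {v | (∃ i, v ∈ D i) ∧ Q v = 1} with hX
  let u : Fin t → ι → F := fun i => e i + f i
  have hu : ∀ i, u i ∈ D i := fun i => (D i).add_mem (he i) (hf i)
  have hQu : ∀ i, Q (u i) = 1 := fun i => by simp only [u]; rw [map_add', hQe, hQf, hef]; ring
  have huX : ∀ i, u i ∈ X := fun i => ⟨⟨i, hu i⟩, hQu i⟩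
  obtain ⟨w, hw0, hw1⟩ : ∃ w : F, w ≠ 0 ∧ w ≠ 1 := by
    by_contra hall
    push Not at hall
    have := Fintype.card_le_of_surjective (fun b : Bool => if b then (1 : F) else 0) fun y => by
      by_cases hy : y = 0
      · exact ⟨false, by simp [hy]⟩
      · exact ⟨true, by simp [hall y hy]⟩
    rw [hq, Fintype.card_bool] at this
    omega
  have hcube : ∀ y : F, y ≠ 0 → y ^ 3 = 1 := fun y hy => by
    have := FiniteField.pow_card_sub_one_eq_one y hy
    rwa [hq] at this
  have hw : w * w + w + 1 = 0 := by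
    have h1 : (w - 1) * (w * w + w + 1) = 0 := by linear_combination hcube w hw0
    exact (mul_eq_zero.1 h1).resolve_left (sub_ne_zero.2 hw1)
  let z : Fin t → ι → F := fun i => w • e i + (w * w) • f i
  have hz : ∀ i, z i ∈ D i := fun i => (D i).add_mem ((D i).smul_mem _ (he i)) ((D i).smul_mem _ (hf i))
  have hQz : ∀ i, Q (z i) = 1 := fun i => by
    simp only [z]
    rw [map_add', map_smul', map_smul', polar_smul_left', polar_smul_right', hQe, hQf, hef]
    linear_combination hcube w hw0
  have hzu : ∀ i, polar Q (z i) (u i) = 1 := fun i => by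
    simp only [z, u, polar_add_left, polar_add_right, polar_smul_left', polar_self_char_two,
      polar_comm Q (f i) (e i), hef]
    linear_combination hw + (-1 : F) * (CharTwo.two_eq_zero : (2 : F) = 0)
  -- pairings of the family
  have hXX : ∀ x ∈ X, ∀ y ∈ X, polar Q x y = 0 ∨ polar Q x y = 1 := by
    rintro x ⟨⟨i, hi⟩, hx⟩ y ⟨⟨j, hj⟩, hy⟩
    by_cases h : i = j
    swap
    · exact Or.inl (ho i j h x hi y hj)
    subst h
    have ex := hexp i x hi
    have ey := hexp i y hj
    set a := polar Q x (f i)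
    set b := polar Q x (e i)
    set c := polar Q y (f i)
    set d := polar Q y (e i)
    have hab : a * b = 1 := by
      rw [ex, map_add', map_smul', map_smul', polar_smul_left', polar_smul_right', hQe, hQf, hef] at hx
      linear_combination hx
    have hcd : c * d = 1 := by
      rw [ey, map_add', map_smul', map_smul', polar_smul_left', polar_smul_right', hQe, hQf, hef] at hy
      linear_combination hy
    have hval : polar Q x y = a * d + b * c := by
      rw [ex, ey]
      simp only [polar_add_left, polar_add_right, polar_smul_left', polar_smul_right', polar_self_char_two,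
        polar_comm Q (f i) (e i), hef]
      ring
    rw [hval]
    -- the product of the two summands is one
    set s := a * d
    have hs : s * (b * c) = 1 := by linear_combination (c * d) * hab + hcd
    have hs0 : s ≠ 0 := left_ne_zero_of_mul_eq_one hs
    have hbc : b * c = s * s := mul_left_cancel₀ hs0 (hs.trans (by linear_combination -(hcube s hs0)))
    by_cases h1 : s = 1
    · left
      rw [hbc, h1]
      linear_combination (CharTwo.two_eq_zero : (2 : F) = 0)
    · right
      have : (s - 1) * (s * s + s + 1) = 0 := by linear_combination hcube s hs0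
      have := (mul_eq_zero.1 this).resolve_left (sub_ne_zero.2 h1)
      rw [hbc]
      linear_combination this + (-1 : F) * (CharTwo.two_eq_zero : (2 : F) = 0)
  let S : Set (ι → F) := AddSubgroup.closure X
  have hSsub : X ⊆ S := AddSubgroup.subset_closure
  have hSX : ∀ y ∈ X, ∀ v ∈ S, polar Q v y = 0 ∨ polar Q v y = 1 := by
    intro y hy v hv
    induction hv using AddSubgroup.closure_induction with
    | mem x hx => exact hXX x hx y hy
    | zero => exact Or.inl (by rw [polar_zero_left])
    | add x x' _ _ hx hx' =>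
      rw [polar_add_left]
      rcases hx with e₁ | e₁ <;> rcases hx' with e₂ | e₂ <;> rw [e₁, e₂]
      · simp
      · simp
      · simp
      · exact Or.inl (CharTwo.add_self_eq_zero 1)
    | neg x _ hx => rwa [show -x = x by rw [← neg_one_smul F x, CharTwo.neg_eq, one_smul]]
  have himg : ∀ g : GL ι F, (∀ x ∈ X, (g : Matrix ι ι F) *ᵥ x ∈ S) → g ∈ setStab S := by
    intro g hgm
    refine mem_setStab_of_mapsTo fun v hv => ?_
    induction hv using AddSubgroup.closure_induction with
    | mem x hx => exact hgm x hx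
    | zero => rw [Matrix.mulVec_zero]; exact (AddSubgroup.closure X).zero_mem
    | add x y _ _ hx hy => rw [Matrix.mulVec_add]; exact (AddSubgroup.closure X).add_mem hx hy
    | neg x _ hx => rw [Matrix.mulVec_neg]; exact (AddSubgroup.closure X).neg_mem hx
  have hle : Cfsg.Geo.decompositionStabilizer D ⊓ Cfsg.Geo.omegaGL ⇑Q ≤ setStab S := fun g hg =>
    himg g fun x hx => hSsub ((stab_parts_le D (fun v => Q v = 1)
      (fun y hy v hv => by rw [isometry_of_omega hy, hv]) hg x).2 hx)
  let i0 : Fin t := ⟨0, by omega⟩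
  let i1 : Fin t := ⟨1, by omega⟩
  let i2 : Fin t := ⟨2, by omega⟩
  let i3 : Fin t := ⟨3, by omega⟩
  have h01 : i0 ≠ i1 := by simp [i0, i1, Fin.ext_iff]
  have h02 : i0 ≠ i2 := by simp [i0, i2, Fin.ext_iff]
  have h03 : i0 ≠ i3 := by simp [i0, i3, Fin.ext_iff]
  have h12 : i1 ≠ i2 := by simp [i1, i2, Fin.ext_iff]
  have h13 : i1 ≠ i3 := by simp [i1, i3, Fin.ext_iff]
  have h23 : i2 ≠ i3 := by simp [i2, i3, Fin.ext_iff]
  have hs : Q (u i0 + u i1) = 0 := by
    rw [map_add', hQu, hQu, ho i0 i1 h01 _ (hu _) _ (hu _), add_zero]; exact CharTwo.add_self_eq_zero 1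
  have hst : polar Q (u i0 + u i1) (u i2 + u i3) = 0 := by
    simp [polar_add_left, polar_add_right, ho i0 i2 h02 _ (hu _) _ (hu _), ho i0 i3 h03 _ (hu _) _ (hu _),
      ho i1 i2 h12 _ (hu _) _ (hu _), ho i1 i3 h13 _ (hu _) _ (hu _)]
  have hQt : Q (u i2 + u i3) = 0 := by
    rw [map_add', hQu, hQu, ho i2 i3 h23 _ (hu _) _ (hu _), add_zero]; exact CharTwo.add_self_eq_zero 1
  obtain ⟨g, hgO, hg⟩ := exists_siegel hQ hn5 hs hst
  have hgK : g ∈ setStab S := himg g fun x hx => by
    have hS : ∀ (c : F) (v : ι → F), (c = 0 ∨ c = 1) → v ∈ AddSubgroup.closure X → c • v ∈ AddSubgroup.closure X := by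
      rintro c v (rfl | rfl) hv
      · rw [zero_smul]; exact AddSubgroup.zero_mem _
      · rwa [one_smul]
    have hcl : ∀ i, u i ∈ AddSubgroup.closure X := fun i => AddSubgroup.subset_closure (huX i)
    have hbin : ∀ v ∈ AddSubgroup.closure X, polar Q x v = 0 ∨ polar Q x v = 1 := fun v hv => by
      rw [polar_comm]; exact hSX x hx v hv
    rw [hg, hQt, zero_mul, add_zero]
    exact (AddSubgroup.closure X).sub_mem ((AddSubgroup.closure X).add_mem (AddSubgroup.subset_closure hx)
      (hS _ _ (hbin _ (add_mem (hcl i0) (hcl i1))) (add_mem (hcl i2) (hcl i3))))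
      (hS _ _ (hbin _ (add_mem (hcl i2) (hcl i3))) (add_mem (hcl i0) (hcl i1)))
  have hu0 : u i0 ≠ 0 := fun h => one_ne_zero (α := F) (by rw [← hQu i0, h, QuadraticMap.map_zero])
  have hgD : g ∉ Cfsg.Geo.decompositionStabilizer D := by
    refine escape hind ho h02 (hu i0) hu0 (hz i0) ?_ (hz i2) ?_
    · simp [hg, polar_add_right, polar_self_char_two, CharTwo.two_eq_zero, ho i0 i1 h01 _ (hu _) _ (hu _),
        ho i0 i2 h02 _ (hu _) _ (hu _), ho i0 i3 h03 _ (hu _) _ (hu _)]
    · simp [hg, polar_add_left, polar_add_right, hzu, polar_comm Q (u i2) (z i2), polar_sub_left,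
        ho i0 i1 h01 _ (hz _) _ (hu _), ho i0 i2 h02 _ (hz _) _ (hu _), ho i0 i3 h03 _ (hz _) _ (hu _),
        ho i3 i2 h23.symm _ (hu _) _ (hz _), ho i0 i2 h02 _ (hz _) _ (hz _),
        ho i0 i2 h02 _ (hu _) _ (hz _), ho i1 i2 h12 _ (hu _) _ (hz _)]
  obtain ⟨h, hhO, hh⟩ := exists_siegel hQ hn5 hs (w := w • (u i2 + u i3))
    (by rw [polar_smul_right', hst, mul_zero])
  refine between hle hgK hgO hgD hhO fun hhK => ?_
  have h1 := (hhK (z i0)).2 (hSsub ⟨⟨i0, hz i0⟩, hQz i0⟩)
  have h2 := hSX (z i2) ⟨⟨i2, hz i2⟩, hQz i2⟩ _ h1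
  simp [hh, hQt, map_smul', polar_add_left, polar_add_right, polar_smul_left', polar_smul_right', hzu,
    polar_comm Q (u i2) (z i2), polar_sub_left, ho i0 i1 h01 _ (hz _) _ (hu _),
    ho i0 i2 h02 _ (hz _) _ (hu _), ho i0 i3 h03 _ (hz _) _ (hu _), ho i3 i2 h23.symm _ (hu _) _ (hz _),
    ho i0 i2 h02 _ (hz _) _ (hz _), ho i0 i2 h02 _ (hu _) _ (hz _), ho i1 i2 h12 _ (hu _) _ (hz _)] at h2
  exact h2.elim hw0 hw1

end CfsgLib.NotMax
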