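import Cfsg.Agent.Lib.NotMax.Basic

/-!
Orthogonal decompositions whose parts have a canonical set of lines of one value, odd characteristic.
-/

set_option autoImplicit false
set_option linter.unusedSectionVars false

namespace CfsgLib.NotMax

open QuadraticMap CfsgLib.Geometry
open scoped Matrix MatrixGroups

variable {F : Type*} [Field F] {ι : Type} [Fintype ι] [DecidableEq ι]
variable {Q : QuadraticForm F (ι → F)}

theorem parts_eq_of_mem {t : ℕ} {D : Fin t → Submodule F (ι → F)} (hD : iSupIndep D) {i j : Fin t}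
    {v : ι → F} (hv : v ≠ 0) (hi : v ∈ D i) (hj : v ∈ D j) : i = j := by
  by_contra hne
  exact hv (Submodule.disjoint_def.1 (hD.pairwiseDisjoint hne) v hi hj)

section Family

variable {L : Type*} {w : L → ι → F} {a : F}

theorem polar_family [DecidableEq L] (hwa : ∀ l, Q (w l) = a)
    (horth : ∀ l l', l ≠ l' → polar Q (w l) (w l') = 0) (i j : L) :
    polar Q (w i) (w j) = if i = j then 2 * a else 0 := by
  split_ifs with h
  · rw [h, polar_self', hwa]
  · exact horth i j h

theorem map_diff (hwa : ∀ l, Q (w l) = a) (horth : ∀ l l', l ≠ l' → polar Q (w l) (w l') = 0)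
    {i j : L} (hij : i ≠ j) : Q (w i - w j) = 2 * a := by
  rw [CfsgLib.Geometry.map_sub', hwa, hwa, horth i j hij]; ring

theorem refl_swap [DecidableEq L] (hwa : ∀ l, Q (w l) = a) (horth : ∀ l l', l ≠ l' → polar Q (w l) (w l') = 0)
    {i j : L} (hij : i ≠ j) (hne : Q (w i - w j) ≠ 0) (l : L) :
    refl Q (w i - w j) hne (w l) = w (Equiv.swap i j l) := by
  have h2a : 2 * a ≠ 0 := map_diff hwa horth hij ▸ hne
  rw [refl_apply, map_diff hwa horth hij, polar_sub_right, polar_family hwa horth,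
    polar_family hwa horth, Equiv.swap_apply_def]
  by_cases h1 : l = i
  · subst h1
    rw [if_pos rfl, if_neg hij, if_pos rfl, sub_zero, inv_mul_cancel₀ h2a, one_smul, sub_sub_cancel]
  by_cases h2 : l = j
  · subst h2
    rw [if_neg h1, if_pos rfl, if_neg h1, if_pos rfl, zero_sub, mul_neg, inv_mul_cancel₀ h2a, neg_smul,
      one_smul, sub_neg_eq_add, add_sub_cancel]
  · rw [if_neg h1, if_neg h2, if_neg h1, if_neg h2, sub_zero, mul_zero, zero_smul, sub_zero]

variable [Fintype F] [Fintype L] {t : ℕ} {D : Fin t → Submodule F (ι → F)}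

/-- A family of mutually orthogonal vectors of one value, exhausting that value inside the parts. -/
theorem family_not_maximal (hQ : (polarBilin Q).Nondegenerate) (h2 : (2 : F) ≠ 0)
    (hD : iSupIndep D) (part : L → Fin t) (ha : a ≠ 0) (hwD : ∀ l, w l ∈ D (part l))
    (hwa : ∀ l, Q (w l) = a) (horth : ∀ l l', l ≠ l' → polar Q (w l) (w l') = 0)
    (huniq : ∀ i, ∀ v ∈ D i, Q v = a → ∃ l, v = w l ∨ v = -w l)
    {l₀ l₁ l₂ l₃ : L} (h01 : part l₀ ≠ part l₁) (h02 : part l₀ ≠ part l₂) (h03 : part l₀ ≠ part l₃)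
    (h12 : l₁ ≠ l₂) (h13 : l₁ ≠ l₃) (h23 : l₂ ≠ l₃)
    {u : ι → F} (hu : u ∈ D (part l₀)) (hu0 : u ≠ 0) (huw : polar Q u (w l₀) = 0)
    (huo : ∀ l, part l ≠ part l₀ → polar Q u (w l) = 0)
    (hcard : Fintype.card F + 4 ≤ Fintype.card L) :
    ∃ K : Subgroup (GL ι F), Cfsg.Geo.decompositionStabilizer D ⊓ Cfsg.Geo.omegaGL ⇑Q < K ∧
      K < Cfsg.Geo.omegaGL ⇑Q := by
  classical
  set X : Set (ι → F) := {v | (∃ i, v ∈ D i) ∧ Q v = a}
  have h2a : (2 : F) * a ≠ 0 := mul_ne_zero h2 ha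
  have hw0 : ∀ l, w l ≠ 0 := fun l e => ha (by rw [← hwa l, e, QuadraticMap.map_zero])
  have hwX : ∀ l, w l ∈ X := fun l => ⟨⟨_, hwD l⟩, hwa l⟩
  have hXneg : ∀ v ∈ X, -v ∈ X := fun v hv =>
    ⟨hv.1.imp fun i hi => (D i).neg_mem hi, by rw [QuadraticMap.map_neg]; exact hv.2⟩
  have hne : ∀ {i j : L}, part i ≠ part j → i ≠ j := fun h e => h (congrArg part e)
  -- the element of the larger group
  have hd01 := map_diff hwa horth (hne h01)
  have hd23 := map_diff hwa horth h23
  obtain ⟨g, hgO, hg⟩ := exists_reflPair hQ h2 (a := w l₀ - w l₁) (b := w l₂ - w l₃)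
    (hd01 ▸ h2a) (hd23.trans hd01.symm)
  have hgw : ∀ l, (g : Matrix ι ι F) *ᵥ w l = w (Equiv.swap l₀ l₁ (Equiv.swap l₂ l₃ l)) := fun l => by
    rw [hg, refl_swap hwa horth h23, refl_swap hwa horth (hne h01)]
  have hgX : g ∈ setStab X := mem_setStab_of_mapsTo fun v hv => by
    obtain ⟨⟨i, hi⟩, hva⟩ := hv
    obtain ⟨l, rfl | rfl⟩ := huniq i v hi hva
    · rw [hgw]; exact hwX _
    · rw [Matrix.mulVec_neg, hgw]; exact hXneg _ (hwX _)
  have hgu : (g : Matrix ι ι F) *ᵥ u = u := by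
    rw [hg]
    have e2 : refl Q (w l₂ - w l₃) (hd23 ▸ h2a) u = u := refl_eq_self Q _ _ (by
      rw [polar_sub_right, huo _ h02.symm, huo _ h03.symm, sub_zero])
    have e1 : refl Q (w l₀ - w l₁) (hd01 ▸ h2a) u = u := refl_eq_self Q _ _ (by
      rw [polar_sub_right, huw, huo _ h01.symm, sub_zero])
    rw [e2, e1]
  have hgD : g ∉ Cfsg.Geo.decompositionStabilizer D := by
    intro hgD
    obtain ⟨j, hj⟩ := mem_part_of_stab hgD (hwD l₀)
    have h1 := hj _ (hwD l₀)
    rw [hgw, Equiv.swap_apply_of_ne_of_ne (hne h02) (hne h03), Equiv.swap_apply_left] at h1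
    have h2' := hj _ hu
    rw [hgu] at h2'
    exact h01 ((parts_eq_of_mem hD hu0 hu h2').trans (parts_eq_of_mem hD (hw0 l₁) (hwD l₁) h1).symm)
  -- the element moving a line off the family
  obtain ⟨em⟩ := Function.Embedding.nonempty_of_card_le
    (α := Fin (Fintype.card F + 4)) (β := L) (by rw [Fintype.card_fin]; exact hcard)
  let k : ℕ := Fintype.card F
  have hk : (k : F) = 0 := FiniteField.cast_card_eq_zero F
  have hk2 : 2 ≤ k := Fintype.one_lt_card
  let ei : ℕ → L := fun i => em ⟨i % (Fintype.card F + 4), Nat.mod_lt _ (by omega)⟩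
  have hei : ∀ i j, i < k + 4 → j < k + 4 → i ≠ j → ei i ≠ ei j := fun i j hi hj hij e => hij (by
    have := congrArg Fin.val (em.injective e)
    simpa [Nat.mod_eq_of_lt (show i < Fintype.card F + 4 from hi), Nat.mod_eq_of_lt (show j < Fintype.card F + 4 from hj)] using this)
  let S : Finset ℕ := Finset.Icc 1 (k + 1)
  set v₁ : ι → F := ∑ i ∈ S, w (ei i) with hv₁
  have hpol : ∀ (l : L), polar Q v₁ (w l) = ∑ i ∈ S, polar Q (w (ei i)) (w l) := fun l => by
    rw [hv₁, ← polarBilin_apply_apply, map_sum, LinearMap.sum_apply]; rfl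
  have hpolS : ∀ i₀, i₀ < k + 4 → polar Q v₁ (w (ei i₀)) = if i₀ ∈ S then 2 * a else 0 := by
    intro i₀ hi₀
    rw [hpol, ← Finset.sum_ite_eq' S i₀ (fun _ => 2 * a)]
    refine Finset.sum_congr rfl fun i hi => ?_
    rw [polar_family hwa horth]
    by_cases h : i = i₀
    · rw [h]; simp
    · rw [if_neg h, if_neg (hei i i₀ (by simp [S] at hi; omega) hi₀ h)]
  have hQv : Q v₁ = a := by
    have key : ∀ s : Finset ℕ, (∀ i ∈ s, i < k + 4) → Q (∑ i ∈ s, w (ei i)) = (s.card : F) * a := fun s => by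
      induction s using Finset.induction with
      | empty => intro _; simp
      | @insert j s hj ih =>
        intro hs
        rw [Finset.sum_insert hj, map_add', ih (fun i hi => hs i (Finset.mem_insert_of_mem hi)), hwa,
          Finset.card_insert_of_notMem hj, ← polarBilin_apply_apply, map_sum]
        have : ∀ i ∈ s, polarBilin Q (w (ei j)) (w (ei i)) = 0 := fun i hi => by
          rw [polarBilin_apply_apply]
          exact horth _ _ (hei j i (hs j (Finset.mem_insert_self j s))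
            (hs i (Finset.mem_insert_of_mem hi)) fun e => hj (e ▸ hi))
        rw [Finset.sum_eq_zero this]
        push_cast; ring
    rw [hv₁, key S (fun i hi => by simp [S] at hi; omega)]
    simp [S, hk]
  have hv₁X : v₁ ∉ X := by
    rintro ⟨⟨i, hi⟩, hva⟩
    obtain ⟨l, hl⟩ := huniq i v₁ hi hva
    have h1 := hpolS 1 (by omega)
    have h2' := hpolS 2 (by omega)
    rw [if_pos (by simp [S])] at h1
    rw [if_pos (by simp [S]; omega)] at h2'
    have hl0 : ∀ j, polar Q (w l) (w j) ≠ 0 → l = j := fun j hj => by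
      by_contra hne'; exact hj (horth l j hne')
    have e : ∀ j, polar Q v₁ (w j) = 2 * a → l = j := fun j hj => hl0 j fun h0 => h2a (by
      rcases hl with e | e
      · rw [← hj, e, h0]
      · rw [← hj, e, QuadraticMap.polar_neg_left, h0, neg_zero])
    exact hei 1 2 (by omega) (by omega) (by omega) ((e _ h1).symm.trans (e _ h2'))
  have hQd : Q (w (ei 0) - v₁) = 2 * a := by
    rw [CfsgLib.Geometry.map_sub', hwa, hQv, polar_comm, hpolS 0 (by omega), if_neg (by simp [S])]; ring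
  have hQy : Q (w (ei (k + 2)) + w (ei (k + 3))) = Q (w (ei 0) - v₁) := by
    rw [hQd, map_add', hwa, hwa, horth _ _ (hei _ _ (by omega) (by omega) (by omega))]; ring
  obtain ⟨h, hhO, hh⟩ := exists_reflPair hQ h2 (hQd ▸ h2a) hQy
  refine between (K := setStab X) ?_ hgX hgO hgD hhO fun hhK => hv₁X ?_
  · exact stab_parts_le D (fun v => Q v = a) fun x hx v hv => by rw [isometry_of_omega hx, hv]
  · have := (hhK (w (ei 0))).2 (hwX _)
    rw [hh] at this
    have e2 : refl Q (w (ei (k + 2)) + w (ei (k + 3))) (hQy ▸ hQd ▸ h2a) (w (ei 0)) = w (ei 0) :=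
      refl_eq_self Q _ _ (by
        rw [polar_add_right, horth _ _ (hei _ _ (by omega) (by omega) (by omega)),
          horth _ _ (hei _ _ (by omega) (by omega) (by omega)), add_zero])
    rw [e2, refl_apply, hQd, polar_sub_right, polar_family hwa horth, if_pos rfl, polar_comm Q (w (ei 0)) v₁,
      hpolS 0 (by omega), if_neg (by simp [S]), sub_zero, inv_mul_cancel₀ h2a, one_smul,
      sub_sub_cancel] at this
    exact this

end Family

/-! ### Canonical lines in a small space -/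

theorem finrank_span_orth {k : ℕ} (h2 : (2 : F) ≠ 0) {b : Fin k → ι → F}
    (hb : ∀ i, Q (b i) ≠ 0) (ho : ∀ i j, i ≠ j → polar Q (b i) (b j) = 0) :
    Module.finrank F (Submodule.span F (Set.range b)) = k := by
  have hli : LinearIndependent F b := by
    rw [Fintype.linearIndependent_iff]
    intro c hc i
    have := congrArg (fun v => polarBilin Q v (b i)) hc
    simp only [map_sum, LinearMap.sum_apply, map_smul, LinearMap.smul_apply, polarBilin_apply_apply,
      polar_zero_left, smul_eq_mul] at this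
    rw [Finset.sum_eq_single i (fun j _ hj => by rw [ho j i hj, mul_zero]) (by simp), polar_self'] at this
    skip
    exact (mul_eq_zero.1 this).resolve_right (mul_ne_zero h2 (hb i))
  rw [finrank_span_eq_card hli, Fintype.card_fin]

/-- An orthogonal basis of a non-degenerate subspace. -/
theorem exists_orth_basis (h2 : (2 : F) ≠ 0) {W : Submodule F (ι → F)} {k : ℕ}
    (hk : Module.finrank F W = k) (hW : Cfsg.Geo.IsNondegenerateOn (polar ⇑Q) W) :
    ∃ b : Fin k → ι → F, (∀ j, b j ∈ W) ∧ (∀ j, Q (b j) ≠ 0) ∧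
      ∀ i j, i ≠ j → polar Q (b i) (b j) = 0 := by
  haveI : Invertible (2 : F) := invertibleOfNonzero h2
  obtain ⟨v, hv⟩ := LinearMap.BilinForm.exists_orthogonal_basis
    (B := polarBilin (Q.comp W.subtype)) ⟨fun x y => by simp [polar_comm]⟩
  have hvo : ∀ i j, i ≠ j → polar Q (v i : ι → F) (v j : ι → F) = 0 := fun i j hij => by
    have := hv hij
    simpa [QuadraticMap.polar] using this
  let e : Fin k ≃ Fin (Module.finrank F W) := finCongr hk.symm
  refine ⟨fun j => (v (e j) : ι → F), fun j => (v (e j)).2, fun j hj => ?_,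
    fun i j hij => hvo _ _ (e.injective.ne hij)⟩
  obtain ⟨⟨x, hx, hx0⟩, -⟩ := hW _ (v (e j)).2 fun h0 => v.ne_zero (e j) (Subtype.ext h0)
  refine hx0 ?_
  have hs : (⟨x, hx⟩ : W) ∈ Submodule.span F (Set.range v) := v.mem_span ⟨x, hx⟩
  have : ∀ y ∈ Submodule.span F (Set.range v), polar Q (y : ι → F) (v (e j) : ι → F) = 0 := by
    intro y hy
    induction hy using Submodule.span_induction with
    | mem y hy =>
      obtain ⟨i, rfl⟩ := hy
      by_cases h : i = e j
      · subst h; rw [polar_self', hj, mul_zero]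
      · exact hvo _ _ h
    | zero => rw [Submodule.coe_zero, polar_zero_left]
    | add y z _ _ hy hz => rw [Submodule.coe_add, polar_add_left, hy, hz, add_zero]
    | smul c y _ hy => rw [Submodule.coe_smul, polar_smul_left', hy, mul_zero]
  exact this _ hs

theorem quad_sum {k : ℕ} {b : Fin k → ι → F} (ho : ∀ i j, i ≠ j → polar Q (b i) (b j) = 0)
    (x : Fin k → F) : Q (∑ j, x j • b j) = ∑ j, x j * x j * Q (b j) := by
  classical
  suffices key : ∀ s : Finset (Fin k), Q (∑ j ∈ s, x j • b j) = ∑ j ∈ s, x j * x j * Q (b j) from key _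
  intro s
  induction s using Finset.induction with
  | empty => simp
  | @insert i s hi ih =>
    have h0 : polar Q (x i • b i) (∑ j ∈ s, x j • b j) = 0 := by
      rw [← polarBilin_apply_apply, map_sum]
      refine Finset.sum_eq_zero fun j hj => ?_
      rw [polarBilin_apply_apply, polar_smul_left', polar_smul_right', ho i j fun e => hi (e ▸ hj),
        mul_zero, mul_zero]
    rw [Finset.sum_insert hi, Finset.sum_insert hi, map_add', ih, map_smul', h0, add_zero]

/-- The data of canonical lines in a part. -/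
structure LineData (Q : QuadraticForm F (ι → F)) (W : Submodule F (ι → F)) where
  a : F
  a_ne : a ≠ 0
  s : ℕ
  s_pos : 0 < s
  b : Fin s → ι → F
  mem : ∀ j, b j ∈ W
  val : ∀ j, Q (b j) = a
  orth : ∀ i j, i ≠ j → polar Q (b i) (b j) = 0
  uniq : ∀ v ∈ W, Q v = a → ∃ j, v = b j ∨ v = -b j
  u : ι → F
  u_mem : u ∈ W
  u_ne : u ≠ 0
  u_orth : polar Q u (b ⟨0, s_pos⟩) = 0

/-- A decomposition with canonical lines in a part, enough of them, is not maximal. -/
theorem not_maximal_of_lineData [Fintype F] (hQ : (polarBilin Q).Nondegenerate) (h2 : (2 : F) ≠ 0)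
    {t k : ℕ} {D : Fin t → Submodule F (ι → F)} (hD : Cfsg.Geo.IsOrthogonalMDecomposition ⇑Q k D)
    (ht : 4 ≤ t) (Ld : LineData Q (D ⟨0, by omega⟩)) (hcard : Fintype.card F + 4 ≤ t * Ld.s) :
    ∃ K : Subgroup (GL ι F), Cfsg.Geo.decompositionStabilizer D ⊓ Cfsg.Geo.omegaGL ⇑Q < K ∧
      K < Cfsg.Geo.omegaGL ⇑Q := by
  let i₀ : Fin t := ⟨0, by omega⟩
  choose e he using fun i => hD.isometric i₀ i
  have hpol : ∀ i (x y : D i₀), polar Q (e i x : ι → F) (e i y : ι → F) = polar Q (x : ι → F) (y : ι → F) := by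
    intro i x y
    simp only [QuadraticMap.polar]
    rw [← Submodule.coe_add, ← map_add, he, he, he]
    rfl
  let w : Fin t × Fin Ld.s → ι → F := fun l => (e l.1 ⟨Ld.b l.2, Ld.mem l.2⟩ : ι → F)
  let j₀ : Fin Ld.s := ⟨0, Ld.s_pos⟩
  have hind := hD.decomp.decomp.indep
  refine family_not_maximal (L := Fin t × Fin Ld.s) (w := w) hQ h2 hind Prod.fst Ld.a_ne
    (fun l => (e l.1 _).2) (fun l => (he l.1 _).trans (Ld.val _)) ?_ ?_
    (l₀ := (i₀, j₀)) (l₁ := (⟨1, by omega⟩, j₀)) (l₂ := (⟨2, by omega⟩, j₀)) (l₃ := (⟨3, by omega⟩, j₀))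
    (by simp [i₀]) (by simp [i₀]) (by simp [i₀]) (by simp) (by simp) (by simp)
    (u := (e i₀ ⟨Ld.u, Ld.u_mem⟩ : ι → F)) (e i₀ _).2 ?_ ?_ ?_
    (by rw [Fintype.card_prod, Fintype.card_fin, Fintype.card_fin]; exact hcard)
  · rintro ⟨i, j⟩ ⟨i', j'⟩ hne
    by_cases hi : i = i'
    · subst hi
      exact (hpol i _ _).trans (Ld.orth _ _ fun h => hne (congrArg (Prod.mk i) h))
    · exact hD.decomp.orthogonal i i' hi _ (e i _).2 _ (e i' _).2
  · intro i v hv hva
    obtain ⟨x, hx⟩ := (e i).surjective ⟨v, hv⟩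
    have hxa : Q (x : ι → F) = Ld.a := by rw [← he i x, hx]; exact hva
    obtain ⟨j, hj⟩ := Ld.uniq _ x.2 hxa
    refine ⟨(i, j), hj.imp (fun h => ?_) (fun h => ?_)⟩
    · show v = (e i ⟨Ld.b j, Ld.mem j⟩ : ι → F)
      rw [show (⟨Ld.b j, Ld.mem j⟩ : D i₀) = x from Subtype.ext h.symm, hx]
    · show v = -(e i ⟨Ld.b j, Ld.mem j⟩ : ι → F)
      rw [show (⟨Ld.b j, Ld.mem j⟩ : D i₀) = -x from Subtype.ext (by simp [h]), map_neg, hx]
      simp
  · intro h0
    have : (⟨Ld.u, Ld.u_mem⟩ : D i₀) = 0 := (e i₀).map_eq_zero_iff.1 (Subtype.ext h0)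
    exact Ld.u_ne (congrArg Subtype.val this)
  · exact (hpol i₀ _ _).trans Ld.u_orth
  · rintro ⟨i, j⟩ hi
    exact hD.decomp.orthogonal i₀ i (Ne.symm hi) _ (e i₀ _).2 _ (e i _).2

end CfsgLib.NotMax
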