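import Cfsg.Agent.Lib.NotMax.Lines

/-!
Canonical lines in planes over the fields of three and five elements and in three-spaces over three elements.
-/

set_option autoImplicit false
set_option linter.unusedSectionVars false

namespace CfsgLib.NotMax

open QuadraticMap CfsgLib.Geometry
open scoped Matrix MatrixGroups

variable {F : Type*} [Field F] {ι : Type} [Fintype ι] [DecidableEq ι]
variable {Q : QuadraticForm F (ι → F)} {W : Submodule F (ι → F)}

section facts

variable [Fintype F]

theorem sq_three (hq : Fintype.card F = 3) (x : F) (hx : x ≠ 0) : x * x = 1 := by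
  have := FiniteField.pow_card_sub_one_eq_one x hx
  rw [hq] at this
  simpa [pow_two] using this

theorem three_zero (hq : Fintype.card F = 3) : (3 : F) = 0 := by
  have := FiniteField.cast_card_eq_zero F
  rw [hq] at this
  exact_mod_cast this

theorem five_zero (hq : Fintype.card F = 5) : (5 : F) = 0 := by
  have := FiniteField.cast_card_eq_zero F
  rw [hq] at this
  exact_mod_cast this

theorem two_ne_of_card (hq : Fintype.card F = 3 ∨ Fintype.card F = 5) : (2 : F) ≠ 0 := fun h => by
  rcases hq with hq | hq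
  · exact one_ne_zero (α := F) (by linear_combination three_zero hq - h)
  · exact one_ne_zero (α := F) (by linear_combination five_zero hq - 2 * h)

theorem sq_five (hq : Fintype.card F = 5) (x : F) (hx : x ≠ 0) : x * x = 1 ∨ x * x = -1 := by
  have := FiniteField.pow_card_sub_one_eq_one x hx
  rw [hq] at this
  have h4 : x ^ 4 = 1 := this
  exact mul_self_eq_one_iff.1 (by linear_combination h4 : (x * x) * (x * x) = 1)

theorem eq_or_neg_three (hq : Fintype.card F = 3) {x y : F} (hx : x ≠ 0) (hy : y ≠ 0) : y = x ∨ y = -x :=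
  mul_self_eq_mul_self_iff.1 ((sq_three hq y hy).trans (sq_three hq x hx).symm)

/-- Two squares with sum one. -/
theorem sq_add_sq_one (hq : Fintype.card F = 3 ∨ Fintype.card F = 5) {x y : F}
    (h : x * x + y * y = 1) : (x = 0 ∧ (y = 1 ∨ y = -1)) ∨ (y = 0 ∧ (x = 1 ∨ x = -1)) := by
  by_cases hx : x = 0
  · exact Or.inl ⟨hx, mul_self_eq_one_iff.1 (by rw [hx] at h; linear_combination h)⟩
  by_cases hy : y = 0
  · exact Or.inr ⟨hy, mul_self_eq_one_iff.1 (by rw [hy] at h; linear_combination h)⟩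
  exfalso
  rcases hq with hq | hq
  · rw [sq_three hq x hx, sq_three hq y hy] at h
    exact one_ne_zero (α := F) (by linear_combination h)
  · have h5 := five_zero hq
    rcases sq_five hq x hx with e | e <;> rcases sq_five hq y hy with e' | e' <;> rw [e, e'] at h
    · exact one_ne_zero (α := F) (by linear_combination h)
    · exact one_ne_zero (α := F) (by linear_combination -h)
    · exact one_ne_zero (α := F) (by linear_combination -h)
    · exact one_ne_zero (α := F) (by linear_combination 2 * h5 + 3 * h)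

end facts

theorem exists_expand {k : ℕ} (h2 : (2 : F) ≠ 0) (hk : Module.finrank F W = k) {b : Fin k → ι → F}
    (hm : ∀ j, b j ∈ W) (hb : ∀ i, Q (b i) ≠ 0) (ho : ∀ i j, i ≠ j → polar Q (b i) (b j) = 0)
    {v : ι → F} (hv : v ∈ W) : ∃ x : Fin k → F, v = ∑ j, x j • b j := by
  have hW : Submodule.span F (Set.range b) = W := Submodule.eq_of_le_of_finrank_eq
    (Submodule.span_le.2 (by rintro _ ⟨j, rfl⟩; exact hm j)) (by rw [finrank_span_orth h2 hb ho, hk])
  rw [← hW] at hv
  obtain ⟨x, hx⟩ := (Submodule.mem_span_range_iff_exists_fun F).1 hv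
  exact ⟨x, hx.symm⟩

theorem ne_zero_of_val {v : ι → F} (h : Q v ≠ 0) : v ≠ 0 := fun e => h (by rw [e, QuadraticMap.map_zero])

/-- A plane with an orthogonal pair of one value. -/
theorem lineData_pair [Fintype F] (hq : Fintype.card F = 3 ∨ Fintype.card F = 5)
    (hk : Module.finrank F W = 2) {b₀ b₁ : ι → F} {a : F} (ha : a ≠ 0) (h0 : b₀ ∈ W) (h1 : b₁ ∈ W)
    (v0 : Q b₀ = a) (v1 : Q b₁ = a) (ho : polar Q b₀ b₁ = 0) :
    ∃ Ld : LineData Q W, Ld.s = 2 := by
  have h2 := two_ne_of_card hq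
  have hm : ∀ j, ![b₀, b₁] j ∈ W := Fin.forall_fin_two.2 ⟨h0, h1⟩
  have hv : ∀ j, Q (![b₀, b₁] j) = a := Fin.forall_fin_two.2 ⟨v0, v1⟩
  have ho' : ∀ i j, i ≠ j → polar Q (![b₀, b₁] i) (![b₀, b₁] j) = 0 := by
    intro i j hij
    fin_cases i <;> fin_cases j <;> simp_all [polar_comm]
  refine ⟨⟨a, ha, 2, two_pos, ![b₀, b₁], hm, hv, ho', fun v hvW hva => ?_, b₁, h1,
    ne_zero_of_val (v1 ▸ ha), (polar_comm _ _ _).trans ho⟩, rfl⟩
  obtain ⟨x, rfl⟩ := exists_expand h2 hk hm (fun i => by rw [hv]; exact ha) ho' hvW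
  rw [quad_sum ho', Fin.sum_univ_two, hv, hv] at hva
  have hs : x 0 * x 0 + x 1 * x 1 = 1 := mul_right_cancel₀ ha (by linear_combination hva)
  rw [Fin.sum_univ_two]
  rcases sq_add_sq_one hq hs with ⟨e, e' | e'⟩ | ⟨e, e' | e'⟩
  · exact ⟨1, Or.inl (by simp [e, e'])⟩
  · exact ⟨1, Or.inr (by simp [e, e'])⟩
  · exact ⟨0, Or.inl (by simp [e, e'])⟩
  · exact ⟨0, Or.inr (by simp [e, e'])⟩

/-- A plane over the field of three elements. -/
theorem lineData_plane3 [Fintype F] (hq : Fintype.card F = 3) (hk : Module.finrank F W = 2)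
    (hW : Cfsg.Geo.IsNondegenerateOn (polar ⇑Q) W) : ∃ Ld : LineData Q W, 1 ≤ Ld.s := by
  have h2 := two_ne_of_card (Or.inl hq)
  obtain ⟨b, hm, hb, ho⟩ := exists_orth_basis h2 hk hW
  rcases eq_or_neg_three hq (hb 0) (hb 1) with e | e
  · obtain ⟨Ld, hL⟩ := lineData_pair (Or.inl hq) hk (hb 0) (hm 0) (hm 1) rfl e (ho 0 1 (by decide))
    exact ⟨Ld, by omega⟩
  refine ⟨⟨Q (b 0), hb 0, 1, one_pos, fun _ => b 0, fun _ => hm 0, fun _ => rfl,
    fun i j h => absurd (Subsingleton.elim i j) h, fun v hvW hva => ?_, b 1, hm 1, ne_zero_of_val (hb 1),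
    ho 1 0 (by decide)⟩, le_refl _⟩
  obtain ⟨x, rfl⟩ := exists_expand h2 hk hm hb ho hvW
  rw [quad_sum ho, Fin.sum_univ_two, e] at hva
  have hs : x 0 * x 0 - x 1 * x 1 = 1 := mul_right_cancel₀ (hb 0) (by linear_combination hva)
  have hx1 : x 1 = 0 := by
    by_contra hx1
    rw [sq_three hq _ hx1] at hs
    by_cases hx0 : x 0 = 0
    · rw [hx0] at hs
      exact h2 (by linear_combination -hs)
    · rw [sq_three hq _ hx0] at hs
      exact one_ne_zero (α := F) (by linear_combination -hs)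
  rw [hx1] at hs
  rcases mul_self_eq_one_iff.1 (by linear_combination hs : x 0 * x 0 = 1) with e' | e'
  · exact ⟨0, Or.inl (by simp [e', hx1])⟩
  · exact ⟨0, Or.inr (by simp [e', hx1])⟩

/-- An orthogonal basis of one value in a three-space over the field of three elements. -/
theorem exists_equal_basis [Fintype F] (hq : Fintype.card F = 3) {b : Fin 3 → ι → F} (hm : ∀ j, b j ∈ W)
    (hb : ∀ j, Q (b j) ≠ 0) (ho : ∀ i j, i ≠ j → polar Q (b i) (b j) = 0) :
    ∃ (a : F) (c : Fin 3 → ι → F), a ≠ 0 ∧ (∀ j, c j ∈ W) ∧ (∀ j, Q (c j) = a) ∧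
      ∀ i j, i ≠ j → polar Q (c i) (c j) = 0 := by
  have key : ∀ i j l : Fin 3, i ≠ j → i ≠ l → j ≠ l → Q (b j) = Q (b i) →
      ∃ (a : F) (c : Fin 3 → ι → F), a ≠ 0 ∧ (∀ j, c j ∈ W) ∧ (∀ j, Q (c j) = a) ∧
        ∀ i j, i ≠ j → polar Q (c i) (c j) = 0 := by
    intro i j l hij hil hjl e
    have o1 := ho i j hij
    have o2 := ho i l hil
    have o3 := ho j l hjl
    rcases eq_or_neg_three hq (hb i) (hb l) with e' | e'
    · refine ⟨Q (b i), ![b i, b j, b l], hb i, fun x => ?_, fun x => ?_, fun x y hxy => ?_⟩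
      · fin_cases x <;> simp [hm]
      · fin_cases x <;> simp [e, e']
      · fin_cases x <;> fin_cases y <;> simp_all [polar_comm]
    · have hsum : 2 * Q (b i) = Q (b l) := by
        rw [e']; linear_combination Q (b i) * three_zero hq
      refine ⟨Q (b l), ![b i + b j, b i - b j, b l], hb l, fun x => ?_, fun x => ?_, fun x y hxy => ?_⟩
      · fin_cases x
        · exact W.add_mem (hm i) (hm j)
        · exact W.sub_mem (hm i) (hm j)
        · exact hm l
      · fin_cases x
        · show Q (b i + b j) = Q (b l); rw [map_add', e, o1, ← hsum]; ring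
        · show Q (b i - b j) = Q (b l); rw [CfsgLib.Geometry.map_sub', e, o1, ← hsum]; ring
        · rfl
      · have p1 : polar Q (b i + b j) (b i - b j) = 0 := by
          rw [polar_add_left, polar_sub_right, polar_sub_right, polar_self', polar_self', o1,
            polar_comm Q (b j) (b i), o1, e]; ring
        have p2 : polar Q (b i + b j) (b l) = 0 := by rw [polar_add_left, o2, o3, add_zero]
        have p3 : polar Q (b i - b j) (b l) = 0 := by rw [polar_sub_left, o2, o3, sub_zero]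
        fin_cases x <;> fin_cases y <;> simp_all [polar_comm]
  rcases eq_or_neg_three hq (hb 0) (hb 1) with e | e
  · exact key 0 1 2 (by decide) (by decide) (by decide) e
  rcases eq_or_neg_three hq (hb 0) (hb 2) with e' | e'
  · exact key 0 2 1 (by decide) (by decide) (by decide) e'
  · exact key 1 2 0 (by decide) (by decide) (by decide) (e'.trans e.symm)

/-- Three squares with sum one over the field of three elements. -/
theorem sq_three_one [Fintype F] (hq : Fintype.card F = 3) (x : Fin 3 → F)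
    (h : x 0 * x 0 + x 1 * x 1 + x 2 * x 2 = 1) :
    ∃ j, (x j = 1 ∨ x j = -1) ∧ ∀ i, i ≠ j → x i = 0 := by
  have h3 := three_zero hq
  have hor : ∀ y : F, y * y = 0 ∧ y = 0 ∨ y * y = 1 ∧ y ≠ 0 := fun y => by
    by_cases hy : y = 0
    · exact Or.inl ⟨by rw [hy, mul_zero], hy⟩
    · exact Or.inr ⟨sq_three hq y hy, hy⟩
  have hpm : ∀ y : F, y * y = 1 → y = 1 ∨ y = -1 := fun y => mul_self_eq_one_iff.1
  rcases hor (x 0) with ⟨a0, b0⟩ | ⟨a0, b0⟩ <;> rcases hor (x 1) with ⟨a1, b1⟩ | ⟨a1, b1⟩ <;>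
    rcases hor (x 2) with ⟨a2, b2⟩ | ⟨a2, b2⟩ <;> rw [a0, a1, a2] at h
  · exact absurd h (by norm_num)
  · exact ⟨2, hpm _ a2, fun i hi => by fin_cases i <;> simp_all⟩
  · exact ⟨1, hpm _ a1, fun i hi => by fin_cases i <;> simp_all⟩
  · exact absurd (by linear_combination h : (1 : F) = 0) one_ne_zero
  · exact ⟨0, hpm _ a0, fun i hi => by fin_cases i <;> simp_all⟩
  · exact absurd (by linear_combination h : (1 : F) = 0) one_ne_zero
  · exact absurd (by linear_combination h : (1 : F) = 0) one_ne_zero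
  · exact absurd (by linear_combination h3 - h : (1 : F) = 0) (one_ne_zero)

/-- A three-space over the field of three elements. -/
theorem lineData_solid3 [Fintype F] (hq : Fintype.card F = 3) (hk : Module.finrank F W = 3)
    (hW : Cfsg.Geo.IsNondegenerateOn (polar ⇑Q) W) : ∃ Ld : LineData Q W, Ld.s = 3 := by
  have h2 := two_ne_of_card (Or.inl hq)
  obtain ⟨b', hm', hb', ho'⟩ := exists_orth_basis h2 hk hW
  obtain ⟨a, b, ha, hm, hv, ho⟩ := exists_equal_basis hq hm' hb' ho'
  refine ⟨⟨a, ha, 3, by norm_num, b, hm, hv, ho, fun v hvW hva => ?_, b 1, hm 1,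
    ne_zero_of_val (by rw [hv]; exact ha), ho 1 0 (by decide)⟩, rfl⟩
  obtain ⟨x, rfl⟩ := exists_expand h2 hk hm (fun i => by rw [hv]; exact ha) ho hvW
  rw [quad_sum ho, Fin.sum_univ_three, hv, hv, hv] at hva
  obtain ⟨j, hj, hrest⟩ := sq_three_one hq x (mul_right_cancel₀ ha (by linear_combination hva))
  have hsum : ∑ i, x i • b i = x j • b j :=
    Finset.sum_eq_single j (fun i _ hi => by rw [hrest i hi, zero_smul]) (by simp)
  rcases hj with e | e
  · exact ⟨j, Or.inl (by rw [hsum, e, one_smul])⟩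
  · exact ⟨j, Or.inr (by rw [hsum, e, neg_smul, one_smul])⟩

/-- A plane with a singular vector over the field of five elements. -/
theorem lineData_plane5 [Fintype F] (hq : Fintype.card F = 5) (hk : Module.finrank F W = 2)
    (hW : Cfsg.Geo.IsNondegenerateOn (polar ⇑Q) W) {v : ι → F} (hv : v ∈ W) (hv0 : v ≠ 0) (hsing : Q v = 0) :
    ∃ Ld : LineData Q W, Ld.s = 2 := by
  have h2 := two_ne_of_card (Or.inr hq)
  obtain ⟨b, hm, hb, ho⟩ := exists_orth_basis h2 hk hW
  obtain ⟨x, rfl⟩ := exists_expand h2 hk hm hb ho hv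
  rw [quad_sum ho, Fin.sum_univ_two] at hsing
  have hx0 : x 0 ≠ 0 := fun e => hv0 (by
    rw [e] at hsing
    have h1 : x 1 * x 1 = 0 := (mul_eq_zero.1 (by linear_combination hsing : x 1 * x 1 * Q (b 1) = 0)).resolve_right (hb 1)
    rw [Fin.sum_univ_two, e, mul_self_eq_zero.1 h1, zero_smul, zero_smul, add_zero])
  -- minus one is a square
  have hi : (2 : F) * 2 = -1 := by linear_combination five_zero hq
  refine lineData_pair (Or.inr hq) hk (hb 0) (hm 0) (W.smul_mem (2 * (x 1 / x 0)) (hm 1)) rfl ?_ ?_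
  · rw [map_smul']
    field_simp
    linear_combination (4 : F) * hsing - (x 0 * x 0 * Q (b 0)) * five_zero hq
  · rw [polar_smul_right', ho 0 1 (by decide), mul_zero]

theorem polar_nondegenerate_of_decomp {t k : ℕ} {D : Fin t → Submodule F (ι → F)}
    (hD : Cfsg.Geo.IsOrthogonalMDecomposition ⇑Q k D) : (polarBilin Q).Nondegenerate := by
  classical
  have key : ∀ v, (∀ w, polar Q v w = 0) → v = 0 := by
    intro v hv
    have hmem : v ∈ iSup D := hD.decomp.decomp.iSup_eq_top ▸ trivial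
    obtain ⟨f, hf, hfv⟩ := (Submodule.mem_iSup_iff_exists_finsupp D v).1 hmem
    have h0 : ∀ i, f i = 0 := fun i => by
      by_contra hne
      obtain ⟨-, x, hx, hx0⟩ := hD.decomp.nondegenerate i _ (hf i) hne
      refine hx0 ?_
      have := hv x
      rw [← hfv, Finsupp.sum, ← polarBilin_apply_apply, map_sum, LinearMap.sum_apply] at this
      simp only [polarBilin_apply_apply] at this
      rwa [Finset.sum_eq_single i (fun j _ hj => hD.decomp.orthogonal j i hj _ (hf j) _ hx)
        (fun h => by rw [Finsupp.notMem_support_iff.1 h]; exact polar_zero_left Q x)] at this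
    rw [← hfv]
    simp [Finsupp.sum, h0]
  exact ⟨fun v hv => key v hv, fun v hv => key v fun w => by rw [polar_comm]; exact hv w⟩

/-- The rows with canonical lines. -/
theorem lines_not_maximal [Fintype F] (hQ : (polarBilin Q).Nondegenerate) (hn : 13 ≤ Fintype.card ι)
    {t k : ℕ} {D : Fin t → Submodule F (ι → F)} (hD : Cfsg.Geo.IsOrthogonalMDecomposition ⇑Q k D)
    (h : (Fintype.card F = 3 ∧ (k = 2 ∨ k = 3)) ∨
      (Fintype.card F = 5 ∧ k = 2 ∧ ∀ i, Cfsg.Geo.IsPlusTypeOn ⇑Q (D i))) :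
    ∃ K : Subgroup (GL ι F), Cfsg.Geo.decompositionStabilizer D ⊓ Cfsg.Geo.omegaGL ⇑Q < K ∧
      K < Cfsg.Geo.omegaGL ⇑Q := by
  have hcardn : t * k = Fintype.card ι := by
    have hint : DirectSum.IsInternal D := DirectSum.isInternal_submodule_of_iSupIndep_of_iSup_eq_top
      hD.decomp.decomp.indep hD.decomp.decomp.iSup_eq_top
    have := (LinearEquiv.ofBijective (DirectSum.coeLinearMap D) hint).finrank_eq
    rw [Module.finrank_directSum, Module.finrank_fintype_fun_eq_card] at this
    simpa [hD.decomp.decomp.finrank_eq] using this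
  have hfin := hD.decomp.decomp.finrank_eq
  have hnd := hD.decomp.nondegenerate
  rcases h with ⟨hq, rfl | rfl⟩ | ⟨hq, rfl, hplus⟩
  · obtain ⟨Ld, hs⟩ := lineData_plane3 hq (hfin ⟨0, by omega⟩) (hnd _)
    exact not_maximal_of_lineData hQ (two_ne_of_card (Or.inl hq)) hD (by omega) Ld
      (le_trans (by omega) (Nat.le_mul_of_pos_right t (by omega : 0 < Ld.s)))
  · obtain ⟨Ld, hs⟩ := lineData_solid3 hq (hfin ⟨0, by omega⟩) (hnd _)
    exact not_maximal_of_lineData hQ (two_ne_of_card (Or.inl hq)) hD (by omega) Ld (by rw [hs]; omega)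
  · obtain ⟨U, hU, hts, hdim⟩ := hplus ⟨0, by omega⟩
    rw [hfin] at hdim
    obtain ⟨v, hv, hv0⟩ := Submodule.exists_mem_ne_zero_of_ne_bot (p := U) fun e => by
      rw [e, finrank_bot] at hdim; omega
    obtain ⟨Ld, hs⟩ := lineData_plane5 hq (hfin ⟨0, by omega⟩) (hnd _) (hU hv) hv0 (hts v hv)
    exact not_maximal_of_lineData hQ (two_ne_of_card (Or.inr hq)) hD (by omega) Ld (by rw [hs]; omega)

end CfsgLib.NotMax
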