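import Cfsg.Agent.Lib.NotMax.TensorOrth
import Cfsg.Agent.Lib.NotMax.EvenPlanes

/-!
`Sp₂(2) ⊗ Sp(2)` in a plus-type orthogonal group: the intermediate group normalises a structure over four elements.
-/

set_option autoImplicit false
set_option linter.unusedSectionVars false

namespace CfsgLib.NotMax

open QuadraticMap Cfsg Cfsg.Geo CfsgLib.Geometry
open CfsgLib.AschbacherForm (coordR)
open CfsgLib.AschbacherOrth (pureVec mulVec_pureVec pureVec_add_right pureVec_add_left pureVec_smul_right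
  pureVec_smul_left)
open scoped Matrix MatrixGroups Kronecker

variable {F : Type*} [Field F] [Fintype F] {ι : Type} [Fintype ι] [DecidableEq ι]
variable {Q : QuadraticForm F (ι → F)}

/-- In characteristic two a product of two reflections lies in `Ω`. -/
theorem exists_reflPair_even (hQ : (polarBilin Q).Nondegenerate) (hn : 5 ≤ Fintype.card ι) (h2 : (2 : F) = 0)
    {a b : ι → F} (ha : Q a ≠ 0) (hb : Q b ≠ 0) :
    ∃ g ∈ Cfsg.Geo.omegaGL ⇑Q, ∀ v, (g : Matrix ι ι F) *ᵥ v = refl Q a ha (refl Q b hb v) := by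
  have hR : reflGroup Q = orth Q := reflGroup_eq_orth hQ (Or.inl (by simp; omega))
  refine ⟨orthToGL Q (oRefl Q a ha * oRefl Q b hb), mem_omegaGL_of_mem ?_, fun v => ?_⟩
  · refine (mem_commutator_orth_iff hQ hR _).2 ?_
    rw [map_mul, orthInvariant_oRefl hQ hR ha, orthInvariant_oRefl hQ hR hb]
    exact Prod.ext (sqClass_eq_one_of_two h2 _)
      (show Multiplicative.ofAdd (1 : ZMod 2) * Multiplicative.ofAdd 1 = 1 by decide)
  · rw [orthToGL_mulVec]; rfl

/-- The elements mapping `z` to itself or its inverse. -/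
def pairNorm {G : Type*} [Group G] (z : G) : Subgroup G where
  carrier := {g | g * z * g⁻¹ = z ∨ g * z * g⁻¹ = z⁻¹}
  one_mem' := Or.inl (by group)
  mul_mem' {a b} ha hb := by
    have e : a * b * z * (a * b)⁻¹ = a * (b * z * b⁻¹) * a⁻¹ := by group
    rcases ha with ha | ha <;> rcases hb with hb | hb <;> simp only [Set.mem_setOf_eq, e, hb]
    · exact Or.inl ha
    · right
      calc a * z⁻¹ * a⁻¹ = (a * z * a⁻¹)⁻¹ := by group
        _ = z⁻¹ := by rw [ha]
    · exact Or.inr ha
    · left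
      calc a * z⁻¹ * a⁻¹ = (a * z * a⁻¹)⁻¹ := by group
        _ = z := by rw [ha, inv_inv]
  inv_mem' {a} ha := by
    rcases ha with ha | ha
    · left
      calc a⁻¹ * z * a⁻¹⁻¹ = a⁻¹ * (a * z * a⁻¹) * a := by rw [ha]; group
        _ = z := by group
    · right
      calc a⁻¹ * z * a⁻¹⁻¹ = a⁻¹ * (a * z * a⁻¹)⁻¹ * a := by rw [ha]; group
        _ = z⁻¹ := by group

theorem exists_partner_form {k : ℕ} {f : (Fin k → F) → (Fin k → F) → F} (hf : IsSymplecticForm f) {u : Fin k → F}
    (hu : u ≠ 0) : ∃ v, f u v = 1 := by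
  obtain ⟨x, hx⟩ := (hf.nondegenerate u hu).2
  exact ⟨(f u x)⁻¹ • x, by rw [hf.bilinear.smul_right, inv_mul_cancel₀ hx]⟩

/-- A non-zero vector orthogonal to fewer vectors than the dimension. -/
theorem exists_perp_form {k r : ℕ} (hr : r < k) {f : (Fin k → F) → (Fin k → F) → F} (hf : IsSymplecticForm f)
    (v : Fin r → Fin k → F) : ∃ s, s ≠ 0 ∧ ∀ i, f (v i) s = 0 := by
  let L : (Fin k → F) →ₗ[F] (Fin r → F) :=
    { toFun := fun s i => f (v i) s
      map_add' := fun a b => funext fun i => hf.bilinear.add_right _ _ _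
      map_smul' := fun c a => funext fun i => hf.bilinear.smul_right _ _ _ }
  obtain ⟨s, hs, hs0⟩ : ∃ s ∈ LinearMap.ker L, s ≠ 0 := by
    refine (Submodule.ne_bot_iff _).1 fun e => ?_
    have h1 := L.finrank_range_add_finrank_ker
    rw [e, finrank_bot, Module.finrank_fin_fun] at h1
    have h2 := (LinearMap.range L).finrank_le
    rw [Module.finrank_fin_fun] at h2
    omega
  exact ⟨s, hs0, fun i => congrFun (LinearMap.mem_ker.1 hs) i⟩

theorem sp_two_tensor_not_maximal (hQ : (polarBilin Q).Nondegenerate) (hn : 13 ≤ Fintype.card ι)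
    (hq : Fintype.card F = 2) {n₂ : ℕ} (e : ι ≃ Fin 2 × Fin n₂) (P : GL ι F)
    {f₁ : (Fin 2 → F) → (Fin 2 → F) → F} {f₂ : (Fin n₂ → F) → (Fin n₂ → F) → F}
    (hf₁ : IsSymplecticForm f₁) (hf₂ : IsSymplecticForm f₂)
    (hT : IsTensorFormStructure id (polar ⇑Q) f₁ f₂ e P)
    (hpure : ∀ x y, Q (pureVec e P x y) = 0) :
    ∃ K : Subgroup (GL ι F), tensorProductSubgroup 2 n₂ e P ⊓ omegaGL ⇑Q < K ∧ K < omegaGL ⇑Q := by
  classical
  haveI : CharP F 2 := charP_of_card_eq_prime hq
  have h2 : (2 : F) = 0 := CharTwo.two_eq_zero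
  have h01 := zero_or_one hq
  have two0 : (1 : F) + 1 = 0 := CharTwo.add_self_eq_zero 1
  have hcard := Fintype.card_congr e
  simp only [Fintype.card_prod, Fintype.card_fin] at hcard
  have hn₂ : 7 ≤ n₂ := by omega
  obtain ⟨c, hc, hpol⟩ := polar_pure hf₁.bilinear hf₂.bilinear hT
  have hc1 : c = 1 := (h01 c).resolve_left hc
  subst hc1
  simp only [one_mul] at hpol
  let p₀ : Fin 2 → F := Pi.single 0 1
  let p₁ : Fin 2 → F := Pi.single 1 1
  have hdec : ∀ p : Fin 2 → F, p = p 0 • p₀ + p 1 • p₁ := fun p => by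
    funext i; fin_cases i <;> simp [p₀, p₁]
  have f00 : f₁ p₀ p₀ = 0 := hf₁.alternating _
  have f11 : f₁ p₁ p₁ = 0 := hf₁.alternating _
  have f01 : f₁ p₀ p₁ = 1 := (h01 _).resolve_left fun h0 => by
    obtain ⟨x, hx⟩ := (hf₁.nondegenerate p₀ (by simp [p₀])).2
    apply hx
    rw [hdec x, hf₁.bilinear.add_right, hf₁.bilinear.smul_right, hf₁.bilinear.smul_right, f00, h0]
    ring
  have f10 : f₁ p₁ p₀ = 1 := by rw [hf₁.skew, f01, CharTwo.neg_eq]
  let T : (Fin n₂ → F) → (Fin n₂ → F) → (ι → F) := fun y y' => pureVec e P p₀ y + pureVec e P p₁ y'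
  have hTT : ∀ y y' w w', polar Q (T y y') (T w w') = f₂ y w' + f₂ y' w := fun y y' w w' => by
    simp only [T, polar_add_left, polar_add_right, hpol, f00, f11, f01, f10, zero_mul, one_mul, add_zero, zero_add]
    ring
  have hQT : ∀ y y', Q (T y y') = f₂ y y' := fun y y' => by
    simp only [T]
    rw [map_add', hpure, hpure, hpol, f01, one_mul, zero_add, zero_add]
  have hTadd : ∀ y y' w w', T y y' + T w w' = T (y + w) (y' + w') := fun y y' w w' => by
    simp only [T, pureVec_add_right]; abel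
  have hpureT : ∀ p y, pureVec e P p y = T (p 0 • y) (p 1 • y) := fun p y => by
    conv_lhs => rw [hdec p]
    simp only [T, pureVec_add_left, pureVec_smul_left, pureVec_smul_right]
  have hTsplit : ∀ v, ∃ y y', v = T y y' := fun v => by
    let x : Fin 2 × Fin n₂ → F := ((↑P⁻¹ : Matrix ι ι F) *ᵥ v) ∘ e.symm
    refine ⟨fun k => x (0, k), fun k => x (1, k), ?_⟩
    have hx : (fun a : Fin 2 × Fin n₂ => p₀ a.1 * x (0, a.2)) ∘ e + (fun a : Fin 2 × Fin n₂ => p₁ a.1 * x (1, a.2)) ∘ e =
        x ∘ e := by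
      funext l
      rcases h : e l with ⟨i, k⟩
      simp only [Pi.add_apply, Function.comp_apply, h]
      fin_cases i <;> simp [p₀, p₁]
    simp only [T, pureVec, ← Matrix.mulVec_add, hx]
    simp [x, Function.comp_assoc, Matrix.mulVec_mulVec]
  have hTzero : ∀ y y', T y y' = 0 → y = 0 ∧ y' = 0 := by
    intro y y' h
    constructor <;> by_contra hne
    · obtain ⟨x, hx⟩ := exists_partner_form hf₂ hne
      have := hTT y y' 0 x
      rw [h, polar_zero_left, hx] at this
      rw [show f₂ y' 0 = 0 by rw [← zero_smul F x, hf₂.bilinear.smul_right, zero_mul], add_zero] at this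
      exact zero_ne_one this
    · obtain ⟨x, hx⟩ := exists_partner_form hf₂ hne
      have := hTT y y' x 0
      rw [h, polar_zero_left, hx] at this
      rw [show f₂ y 0 = 0 by rw [← zero_smul F x, hf₂.bilinear.smul_right, zero_mul], zero_add] at this
      exact zero_ne_one this
  -- the element of order three in the first factor
  let Rm : Matrix (Fin 2) (Fin 2) F := !![0, 1; 1, 1]
  let Rinv : Matrix (Fin 2) (Fin 2) F := !![1, 1; 1, 0]
  have hR1 : Rm * Rinv = 1 := by
    ext i j; fin_cases i <;> fin_cases j <;> simp [Rm, Rinv, Matrix.mul_apply, two0]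
  have hR2 : Rinv * Rm = 1 := by
    ext i j; fin_cases i <;> fin_cases j <;> simp [Rm, Rinv, Matrix.mul_apply, two0]
  let R : GL (Fin 2) F := ⟨Rm, Rinv, hR1, hR2⟩
  let zk : GL (Fin 2 × Fin n₂) F := AschbacherForm.kronGL R 1
  let z : GL ι F := P * glReindex e.symm zk * P⁻¹
  have hzco : coordR e P (z : Matrix ι ι F) = (zk : Matrix (Fin 2 × Fin n₂) (Fin 2 × Fin n₂) F) := by
    rw [AschbacherForm.coordR_gl]
    congr 1
    refine Units.ext ?_
    ext i j
    simp [z, zk, glReindex, mul_assoc]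
  clear_value z
  have hz : ∀ y y', (z : Matrix ι ι F) *ᵥ T y y' = T y' (y + y') := fun y y' => by
    simp only [T, Matrix.mulVec_add, mulVec_pureVec e P z (A := R) (B := 1) hzco, Units.val_one, Matrix.one_mulVec]
    rw [show (R : Matrix (Fin 2) (Fin 2) F) *ᵥ p₀ = p₁ by
        funext i; fin_cases i <;> simp [R, Rm, p₀, p₁, Matrix.mulVec, dotProduct],
      show (R : Matrix (Fin 2) (Fin 2) F) *ᵥ p₁ = p₀ + p₁ by
        funext i; fin_cases i <;> simp [R, Rm, p₀, p₁, Matrix.mulVec, dotProduct],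
      pureVec_add_left, pureVec_add_right]
    abel
  have hle : tensorProductSubgroup 2 n₂ e P ⊓ omegaGL ⇑Q ≤ pairNorm z := by
    rintro g ⟨hg, -⟩
    obtain ⟨A, B, hAB⟩ := tensor_coord hg
    have hA : (A : Matrix (Fin 2) (Fin 2) F) * Rm = Rm * (A : Matrix (Fin 2) (Fin 2) F) ∨
        (A : Matrix (Fin 2) (Fin 2) F) * Rm = Rinv * (A : Matrix (Fin 2) (Fin 2) F) := by
      have hd : (A : Matrix (Fin 2) (Fin 2) F).det ≠ 0 := ((Matrix.isUnit_iff_isUnit_det _).1 A.isUnit).ne_zero
      rw [Matrix.det_fin_two] at hd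
      rcases h01 ((A : Matrix (Fin 2) (Fin 2) F) 0 0) with a | a <;>
        rcases h01 ((A : Matrix (Fin 2) (Fin 2) F) 0 1) with b | b <;>
        rcases h01 ((A : Matrix (Fin 2) (Fin 2) F) 1 0) with c | c <;>
        rcases h01 ((A : Matrix (Fin 2) (Fin 2) F) 1 1) with d | d <;>
        rw [a, b, c, d] at hd <;>
        first
          | (exfalso; simp [two0] at hd; done)
          | (left; ext i j; fin_cases i <;> fin_cases j <;> simp [Rm, Matrix.mul_apply, a, b, c, d, two0]; done)
          | (right; ext i j; fin_cases i <;> fin_cases j <;> simp [Rm, Rinv, Matrix.mul_apply, a, b, c, d, two0]; done)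
    have inj : Function.Injective (coordR e P : Matrix ι ι F → _) := (coordR e P).injective
    have hzi : coordR e P ((z⁻¹ : GL ι F) : Matrix ι ι F) = Rinv ⊗ₖ (1 : Matrix (Fin n₂) (Fin n₂) F) := by
      refine left_inv_eq_right_inv (a := coordR e P (z : Matrix ι ι F)) ?_ ?_
      · rw [← map_mul, Units.inv_mul, map_one]
      · rw [hzco, AschbacherForm.kronGL_val, Units.val_one, ← Matrix.mul_kronecker_mul, mul_one]
        show (Rm * Rinv) ⊗ₖ (1 : Matrix (Fin n₂) (Fin n₂) F) = 1
        rw [hR1, Matrix.one_kronecker_one]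
    have hzv : coordR e P (z : Matrix ι ι F) = Rm ⊗ₖ (1 : Matrix (Fin n₂) (Fin n₂) F) := hzco
    rcases hA with hA | hA
    · left
      rw [mul_inv_eq_iff_eq_mul]
      refine Units.ext (inj ?_)
      rw [Units.val_mul, Units.val_mul, map_mul, map_mul, hAB, hzv, ← Matrix.mul_kronecker_mul,
        ← Matrix.mul_kronecker_mul, hA, mul_one, one_mul]
    · right
      rw [mul_inv_eq_iff_eq_mul]
      refine Units.ext (inj ?_)
      rw [Units.val_mul, Units.val_mul, map_mul, map_mul, hAB, hzv, hzi, ← Matrix.mul_kronecker_mul,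
        ← Matrix.mul_kronecker_mul, hA, mul_one, one_mul]
  -- vectors
  let u : Fin n₂ → F := Pi.single ⟨0, by omega⟩ 1
  have hu : u ≠ 0 := by simp [u]
  obtain ⟨u', huu'⟩ := exists_partner_form hf₂ hu
  have alt := hf₂.alternating
  have symm₂ : ∀ a b, f₂ b a = f₂ a b := fun a b => by rw [hf₂.skew, CharTwo.neg_eq]
  have hf20 : ∀ a, f₂ a 0 = 0 := fun a => by rw [← zero_smul F a, hf₂.bilinear.smul_right, zero_mul]
  have hf20' : ∀ a, f₂ 0 a = 0 := fun a => by rw [← zero_smul F a, hf₂.bilinear.smul_left, zero_mul]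
  obtain ⟨s, hs0, hs⟩ := exists_perp_form (by omega : 2 < n₂) hf₂ ![u, u']
  have hus : f₂ u s = 0 := hs 0
  have hu's : f₂ u' s = 0 := hs 1
  obtain ⟨y₀, hy₀⟩ := exists_partner_form hf₂ hs0
  set s' := y₀ + f₂ u' y₀ • u + f₂ u y₀ • u'
  have hss' : f₂ s s' = 1 := by
    simp [s', hf₂.bilinear.add_right, hf₂.bilinear.smul_right, hy₀, symm₂ u s, symm₂ u' s, hus, hu's]
  have hus' : f₂ u s' = 0 := by
    simp [s', hf₂.bilinear.add_right, hf₂.bilinear.smul_right, alt, huu', CharTwo.add_self_eq_zero]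
  have hu's' : f₂ u' s' = 0 := by
    simp [s', hf₂.bilinear.add_right, hf₂.bilinear.smul_right, alt, symm₂ u u', huu', CharTwo.add_self_eq_zero]
  obtain ⟨r, hr0, hr⟩ := exists_perp_form (by omega : 4 < n₂) hf₂ ![u, u', s, s']
  set x := T u u' with hxdef
  set zx := (z : Matrix ι ι F) *ᵥ x with hzxdef
  have hzx : zx = T u' (u + u') := hz u u'
  have hQx : Q x = 1 := by rw [hxdef, hQT, huu']
  have hQzx : Q zx = 1 := by rw [hzx, hQT, hf₂.bilinear.add_right, alt, add_zero, symm₂, huu']
  set y := T s s' with hydef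
  have hQy : Q y = 1 := by rw [hydef, hQT, hss']
  have hone : ∀ {a : ι → F}, Q a = 1 → Q a ≠ 0 := fun h => by rw [h]; exact one_ne_zero
  have hrefl : ∀ (a : ι → F) (ha : Q a = 1) (v : ι → F), refl Q a (hone ha) v = v + polar Q v a • a := fun a ha v => by
    rw [refl_apply, ha, inv_one, one_mul, vec_sub]
  obtain ⟨g, hgO, hg⟩ := exists_reflPair_even hQ (by omega) h2 (hone hQx) (hone hQzx)
  obtain ⟨h, hhO, hh⟩ := exists_reflPair_even hQ (by omega) h2 (hone hQx) (hone hQy)
  have hzxx : polar Q zx x = 1 := by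
    rw [hzx, hxdef, hTT]
    simp [hf₂.bilinear.add_left, alt, huu', symm₂ u u']
  have hgv : ∀ v, (g : Matrix ι ι F) *ᵥ v = v + polar Q v zx • zx + (polar Q v x + polar Q v zx) • x := fun v => by
    rw [hg, hrefl zx hQzx, hrefl x hQx, polar_add_left, polar_smul_left', hzxx, mul_one]
  have hgz : g ∈ pairNorm z := by
    left
    rw [mul_inv_eq_iff_eq_mul]
    refine Units.ext (CfsgLib.Geometry.matrix_eq_of_mulVec fun v => ?_)
    obtain ⟨a, b, rfl⟩ := hTsplit v
    simp only [Units.val_mul, ← Matrix.mulVec_mulVec, hgv, Matrix.mulVec_add, Matrix.mulVec_smul, hz, hzx, hxdef,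
      hTT, hf₂.bilinear.add_left, hf₂.bilinear.add_right]
    rcases h01 (f₂ a u) with e1 | e1 <;> rcases h01 (f₂ a u') with e2 | e2 <;>
      rcases h01 (f₂ b u) with e3 | e3 <;> rcases h01 (f₂ b u') with e4 | e4 <;>
      simp only [e1, e2, e3, e4, two0, add_zero, zero_add, zero_smul, one_smul, hTadd] <;>
      congr 1 <;> funext i <;> simp only [Pi.add_apply] <;>
      first
        | ring1
        | linear_combination (u i + u' i) * h2
        | linear_combination (u i) * h2
        | linear_combination (u' i) * h2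
        | linear_combination -(u i) * h2
        | linear_combination -(u' i) * h2
        | linear_combination -(u i + u' i) * h2
  have hgH : g ∉ tensorProductSubgroup 2 n₂ e P := by
    intro hmem
    obtain ⟨A, B, hAB⟩ := tensor_coord hmem
    set w := u + s
    have hv := hgv (T w 0)
    rw [hzx, hxdef, hTT, hTT] at hv
    simp only [w, hf₂.bilinear.add_left, hf₂.bilinear.add_right, hf20', alt, huu', symm₂ u s, symm₂ u' s, hus, hu's,
      add_zero, zero_add, two0, zero_smul, one_smul, hTadd] at hv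
    have hTA : (g : Matrix ι ι F) *ᵥ T w 0 =
        T (((A : Matrix (Fin 2) (Fin 2) F) *ᵥ p₀) 0 • ((B : Matrix (Fin n₂) (Fin n₂) F) *ᵥ w))
          (((A : Matrix (Fin 2) (Fin 2) F) *ᵥ p₀) 1 • ((B : Matrix (Fin n₂) (Fin n₂) F) *ᵥ w)) := by
      rw [← hpureT, ← mulVec_pureVec e P g hAB]
      congr 1
      simp [T, pureVec, Function.comp_def, ← Pi.zero_def]
    rw [hTA] at hv
    set β := (B : Matrix (Fin n₂) (Fin n₂) F) *ᵥ w
    generalize ((A : Matrix (Fin 2) (Fin 2) F) *ᵥ p₀) 0 = α at hv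
    generalize ((A : Matrix (Fin 2) (Fin 2) F) *ᵥ p₀) 1 = γ at hv
    have h0 : α • β = u + s + u' ∧ γ • β = u + u' := by
      have e1 := hTzero (α • β - (u + s + u')) (γ • β - (u + u')) (by
        have := hTadd (α • β - (u + s + u')) (γ • β - (u + u')) (u + s + u') (u + u')
        rw [sub_add_cancel, sub_add_cancel, hv] at this
        exact add_eq_right.1 this)
      exact ⟨sub_eq_zero.1 e1.1, sub_eq_zero.1 e1.2⟩
    have hne1 : u + s + u' ≠ 0 := fun e => by
      have := congrArg (fun a => f₂ u a) e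
      simp [hf₂.bilinear.add_right, alt, hus, huu', hf20] at this
    have hne2 : u + u' ≠ 0 := fun e => by
      have := congrArg (fun a => f₂ u a) e
      simp [hf₂.bilinear.add_right, alt, huu', hf20] at this
    have ha : α = 1 := (h01 α).resolve_left fun e => hne1 (by rw [← h0.1, e, zero_smul])
    have hb : γ = 1 := (h01 γ).resolve_left fun e => hne2 (by rw [← h0.2, e, zero_smul])
    rw [ha, hb, one_smul] at h0
    have := h0.1.symm.trans h0.2
    exact hs0 (add_left_cancel (a := u) (by simpa using this : u + s = u + 0))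
  refine between (K := pairNorm z) hle hgz hgO hgH hhO ?_
  have hhv : ∀ v, (h : Matrix ι ι F) *ᵥ v = refl Q x (hone hQx) (refl Q y (hone hQy) v) := hh
  rintro (hK | hK) <;> rw [mul_inv_eq_iff_eq_mul] at hK
  · have := congrArg (fun m : GL ι F => (m : Matrix ι ι F) *ᵥ x) hK
    simp only [Units.val_mul, ← Matrix.mulVec_mulVec] at this
    rw [← hzxdef, hhv, hhv, hrefl y hQy, hrefl y hQy] at this
    have e1 : polar Q zx y = 0 := by
      rw [hzx, hydef, hTT]; simp [hf₂.bilinear.add_left, hus, hus', hu's, hu's']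
    have e2 : polar Q x y = 0 := by
      rw [hxdef, hydef, hTT]; simp [hus', hu's]
    simp only [e1, e2, hrefl x hQx, hzxx, polar_self', h2, zero_mul, one_smul, zero_smul, add_zero, ← hzxdef,
      add_eq_left] at this
    exact (hone hQx) (by rw [this, QuadraticMap.map_zero])
  · have hK' : z * h * z = h := by rw [mul_assoc, hK, ← mul_assoc, mul_inv_cancel, one_mul]
    have := congrArg (fun m : GL ι F => (m : Matrix ι ι F) *ᵥ T r 0) hK'
    simp only [Units.val_mul, ← Matrix.mulVec_mulVec] at this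
    have fix : ∀ a b, f₂ u a = 0 → f₂ u' a = 0 → f₂ s a = 0 → f₂ s' a = 0 → f₂ u b = 0 → f₂ u' b = 0 →
        f₂ s b = 0 → f₂ s' b = 0 → (h : Matrix ι ι F) *ᵥ T a b = T a b := by
      intro a b c1 c2 c3 c4 c5 c6 c7 c8
      have d1 : polar Q (T a b) y = 0 := by rw [hydef, hTT, symm₂ s', symm₂ s, c4, c7, add_zero]
      have d2 : polar Q (T a b) x = 0 := by rw [hxdef, hTT, symm₂ u', symm₂ u, c2, c5, add_zero]
      rw [hhv, refl_eq_self Q y _ d1, refl_eq_self Q x _ d2]
    rw [hz, add_zero, fix _ _ (hf20 _) (hf20 _) (hf20 _) (hf20 _) (by simpa using hr 0) (by simpa using hr 1)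
      (by simpa using hr 2) (by simpa using hr 3), hz, zero_add, fix r 0 (by simpa using hr 0) (by simpa using hr 1)
      (by simpa using hr 2) (by simpa using hr 3) (hf20 _) (hf20 _) (hf20 _) (hf20 _)] at this
    skip
    have h3 := hTzero (0 : Fin n₂ → F) r (by
      have hh' := hTadd r r r 0
      rw [add_zero, this, vec_add_self (F := F) (T r 0), vec_add_self (F := F) r] at hh'
      exact hh'.symm)
    exact hr0 h3.2

end CfsgLib.NotMax
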