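import Cfsg.Agent.Lib.NotMax.EvenPlanes

/-!
The space of slot operators on a tensor power of planes in characteristic two, and elements of `Ω` around it.
-/

set_option autoImplicit false
set_option linter.unusedSectionVars false

namespace CfsgLib.NotMax.Spin

open QuadraticMap CfsgLib.Geometry
open scoped Matrix MatrixGroups

variable {F : Type*} [Field F] [CharP F 2] {ι : Type} [Fintype ι] [DecidableEq ι]
variable {Q : QuadraticForm F (ι → F)} {L : Type} [Fintype L] [DecidableEq L]
variable (v : Module.Basis (L → Bool) F (ι → F))

/-- Setting the coordinate `l` to `ε`, where it differs. -/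
noncomputable def D (l : L) (ε : Bool) : Matrix ι ι F :=
  LinearMap.toMatrix' (v.constr F fun a => if a l = ε then 0 else v (Function.update a l ε))

theorem D_apply (l : L) (ε : Bool) (a : L → Bool) :
    D v l ε *ᵥ v a = if a l = ε then 0 else v (Function.update a l ε) := by
  rw [D, LinearMap.toMatrix'_mulVec, Module.Basis.constr_basis]

theorem ext_basis {X Y : Matrix ι ι F} (h : ∀ a, X *ᵥ v a = Y *ᵥ v a) : X = Y :=
  Matrix.toLin'.injective (v.ext fun a => by simpa [Matrix.toLin'_apply] using h a)

theorem D_sq (l : L) (ε : Bool) : D v l ε * D v l ε = 0 := by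
  refine ext_basis v fun a => ?_
  rw [← Matrix.mulVec_mulVec, D_apply, Matrix.zero_mulVec]
  split_ifs
  · rw [Matrix.mulVec_zero]
  · rw [D_apply, Function.update_self, if_pos rfl]

theorem D_comm {l l' : L} (h : l ≠ l') (ε ε' : Bool) : D v l ε * D v l' ε' = D v l' ε' * D v l ε := by
  refine ext_basis v fun a => ?_
  rw [← Matrix.mulVec_mulVec, ← Matrix.mulVec_mulVec, D_apply, D_apply]
  by_cases h1 : a l = ε <;> by_cases h2 : a l' = ε'
  · rw [if_pos h2, if_pos h1, Matrix.mulVec_zero, Matrix.mulVec_zero]
  · rw [if_neg h2, if_pos h1, Matrix.mulVec_zero, D_apply, Function.update_of_ne h, if_pos h1]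
  · rw [if_pos h2, if_neg h1, Matrix.mulVec_zero, D_apply, Function.update_of_ne h.symm, if_pos h2]
  · rw [if_neg h2, if_neg h1, D_apply, D_apply, Function.update_of_ne h, Function.update_of_ne h.symm,
      if_neg h1, if_neg h2, Function.update_comm h]

theorem D_anti (l : L) (ε : Bool) : D v l ε * D v l (!ε) + D v l (!ε) * D v l ε = 1 := by
  refine ext_basis v fun a => ?_
  rw [Matrix.add_mulVec, ← Matrix.mulVec_mulVec, ← Matrix.mulVec_mulVec, Matrix.one_mulVec, D_apply, D_apply]
  by_cases h : a l = ε
  · rw [if_pos h, if_neg (by rw [h]; cases ε <;> simp), Matrix.mulVec_zero, add_zero, D_apply,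
      Function.update_self, if_neg (by cases ε <;> simp), Function.update_idem, ← h, Function.update_eq_self]
  · have h' : a l = !ε := by revert h; cases ε <;> cases a l <;> simp
    rw [if_neg h, if_pos h', Matrix.mulVec_zero, zero_add, D_apply, Function.update_self,
      if_neg (by cases ε <;> simp), Function.update_idem, ← h', Function.update_eq_self]

/-- An operator changing only the coordinates of `S`, sending basis vectors to basis vectors or zero. -/
def Changes (N : Matrix ι ι F) (S : Finset L) : Prop :=
  ∀ a, N *ᵥ v a = 0 ∨ ∃ b, N *ᵥ v a = v b ∧ ∀ l ∉ S, b l = a l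

theorem changes_D (l : L) (ε : Bool) : Changes v (D v l ε) {l} := fun a => by
  rw [D_apply]
  split_ifs
  · exact Or.inl rfl
  · exact Or.inr ⟨_, rfl, fun l' hl' => Function.update_of_ne (by simpa using hl') _ _⟩

theorem changes_mul {N M : Matrix ι ι F} {S T : Finset L} (hN : Changes v N S) (hM : Changes v M T) :
    Changes v (N * M) (S ∪ T) := fun a => by
  rw [← Matrix.mulVec_mulVec]
  rcases hM a with h | ⟨b, hb, hb'⟩
  · exact Or.inl (by rw [h, Matrix.mulVec_zero])
  rw [hb]
  rcases hN b with h | ⟨d, hd, hd'⟩
  · exact Or.inl h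
  · exact Or.inr ⟨d, hd, fun l hl => by
      rw [Finset.mem_union, not_or] at hl
      rw [hd' l hl.1, hb' l hl.2]⟩

/-- The basis is hyperbolic for the coordinatewise negation. -/
structure Hyp (Q : QuadraticForm F (ι → F)) (c : F) : Prop where
  ne : c ≠ 0
  sing : ∀ a, Q (v a) = 0
  pair : ∀ a b, polar Q (v a) (v b) = if b = (fun l => !a l) then c else 0

/-- Self-adjointness for the polar form. -/
def SelfAdj (Q : QuadraticForm F (ι → F)) (N : Matrix ι ι F) : Prop :=
  ∀ x y, polar Q (N *ᵥ x) y = polar Q x (N *ᵥ y)

variable {v} {c : F}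

theorem selfAdj_D (hv : Hyp v Q c) (l : L) (ε : Bool) : SelfAdj Q (D v l ε) := by
  have key : (polarBilin Q).comp (Matrix.toLin' (D v l ε)) = (polarBilin Q).compl₂ (Matrix.toLin' (D v l ε)) := by
    refine v.ext fun a => v.ext fun b => ?_
    simp only [LinearMap.comp_apply, LinearMap.compl₂_apply, Matrix.toLin'_apply, polarBilin_apply_apply, D_apply]
    by_cases h1 : a l = ε <;> by_cases h2 : b l = ε
    · rw [if_pos h1, if_pos h2, polar_zero_left, polar_zero_right]
    · rw [if_pos h1, if_neg h2, polar_zero_left, hv.pair, if_neg]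
      intro e
      have := congrFun e l
      rw [Function.update_self, h1] at this
      cases ε <;> simp at this
    · rw [if_neg h1, if_pos h2, polar_zero_right, hv.pair, if_neg]
      intro e
      have := congrFun e l
      rw [Function.update_self, h2] at this
      cases ε <;> simp at this
    · rw [if_neg h1, if_neg h2, hv.pair, hv.pair]
      refine if_congr ?_ rfl rfl
      have e1 : a l = !ε := by revert h1; cases ε <;> cases a l <;> simp
      have e2 : b l = !ε := by revert h2; cases ε <;> cases b l <;> simp
      simp only [funext_iff]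
      refine forall_congr' fun j => ?_
      by_cases hj : j = l
      · subst hj; simp [Function.update_self, e1, e2]
      · simp [Function.update_of_ne hj]
  intro x y
  have := congrFun (congrArg DFunLike.coe (congrFun (congrArg DFunLike.coe key) x)) y
  simpa [Matrix.toLin'_apply] using this

theorem selfAdj_mul {N M : Matrix ι ι F} (hN : SelfAdj Q N) (hM : SelfAdj Q M) (h : N * M = M * N) :
    SelfAdj Q (N * M) := fun x y => by
  conv_rhs => rw [h]
  rw [← Matrix.mulVec_mulVec, ← Matrix.mulVec_mulVec, hN, hM]

/-- An involution `1 + N` is an isometry. -/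
theorem isometry (hv : Hyp v Q c) {N : Matrix ι ι F} {S : Finset L} (hS : Changes v N S) (hne : S ≠ Finset.univ)
    (hN : SelfAdj Q N) (hsq : N * N = 0) (x : ι → F) : Q (x + N *ᵥ x) = Q x := by
  have h0 : ∀ x y, polar Q (N *ᵥ x) (N *ᵥ y) = 0 := fun x y => by
    rw [hN, Matrix.mulVec_mulVec, hsq, Matrix.zero_mulVec, polar_zero_right]
  suffices h : Q (N *ᵥ x) + polar Q x (N *ᵥ x) = 0 by
    rw [map_add']; linear_combination h
  have hx : x ∈ Submodule.span F (Set.range v) := v.mem_span x
  induction hx using Submodule.span_induction with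
  | mem x hx =>
    obtain ⟨a, rfl⟩ := hx
    rcases hS a with h | ⟨b, hb, hb'⟩
    · rw [h, polar_zero_right, QuadraticMap.map_zero, add_zero]
    · rw [hb, hv.sing, zero_add, hv.pair, if_neg]
      intro e
      obtain ⟨l, hl⟩ : ∃ l, l ∉ S := by
        by_contra hc; push Not at hc; exact hne (Finset.eq_univ_iff_forall.2 hc)
      have := congrFun e l
      rw [hb' l hl] at this
      cases h' : a l <;> simp [h'] at this
  | zero => rw [Matrix.mulVec_zero, polar_zero_right, QuadraticMap.map_zero, add_zero]
  | add x y _ _ hx hy =>
    have hxy : polar Q x (N *ᵥ y) + polar Q y (N *ᵥ x) = 0 := by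
      rw [polar_comm Q y, hN, CharTwo.add_self_eq_zero]
    rw [Matrix.mulVec_add, map_add', h0, add_zero, polar_add_left, polar_add_right, polar_add_right]
    linear_combination hx + hy + hxy
  | smul r x _ hx =>
    rw [Matrix.mulVec_smul, map_smul', polar_smul_left', polar_smul_right']
    linear_combination r * r * hx

theorem one_add_sq {N : Matrix ι ι F} (hsq : N * N = 0) : (1 + N) * (1 + N) = 1 := by
  rw [mul_add, add_mul, add_mul, hsq, one_mul, mul_one, one_mul, add_zero, add_assoc,
    show N + N = 0 by rw [← two_smul F, CharTwo.two_eq_zero, zero_smul], add_zero]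

theorem exists_orth (hv : Hyp v Q c) {N : Matrix ι ι F} {S : Finset L} (hS : Changes v N S)
    (hne : S ≠ Finset.univ) (hN : SelfAdj Q N) (hsq : N * N = 0) :
    ∃ y : orth Q, y * y = 1 ∧ ∀ x, (y : (ι → F) ≃ₗ[F] (ι → F)) x = (1 + N) *ᵥ x := by
  let f : (ι → F) →ₗ[F] (ι → F) := Matrix.toLin' (1 + N)
  have hf : Function.Involutive f := fun x => by
    simp only [f, Matrix.toLin'_apply, Matrix.mulVec_mulVec, one_add_sq hsq, Matrix.one_mulVec]
  refine ⟨⟨LinearEquiv.ofInvolutive f hf, fun x => ?_⟩, Subtype.ext (LinearEquiv.ext hf), fun x => rfl⟩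
  show Q ((1 + N) *ᵥ x) = Q x
  rw [Matrix.add_mulVec, Matrix.one_mulVec]
  exact isometry hv hS hne hN hsq x

/-- A commutator of two such involutions. -/
theorem exists_omega (hv : Hyp v Q c) {A B : Matrix ι ι F} {S T : Finset L}
    (hA : Changes v A S) (hSne : S ≠ Finset.univ) (hA' : SelfAdj Q A) (hA2 : A * A = 0)
    (hB : Changes v B T) (hTne : T ≠ Finset.univ) (hB' : SelfAdj Q B) (hB2 : B * B = 0)
    (hABA : A * B * A = 0) (hBAB : B * A * B = 0) :
    ∃ g ∈ Cfsg.Geo.omegaGL ⇑Q, (g : Matrix ι ι F) = 1 + (A * B + B * A) := by
  obtain ⟨y, hy2, hy⟩ := exists_orth hv hA hSne hA' hA2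
  obtain ⟨z, hz2, hz⟩ := exists_orth hv hB hTne hB' hB2
  refine ⟨orthToGL Q (y * z * y⁻¹ * z⁻¹), mem_omegaGL_of_mem
    (Subgroup.commutator_mem_commutator (Subgroup.mem_top y) (Subgroup.mem_top z)), ?_⟩
  refine CfsgLib.Geometry.matrix_eq_of_mulVec fun x => ?_
  rw [orthToGL_mulVec, inv_eq_of_mul_eq_one_right hy2, inv_eq_of_mul_eq_one_right hz2]
  show (y : (ι → F) ≃ₗ[F] (ι → F)) ((z : (ι → F) ≃ₗ[F] (ι → F)) ((y : (ι → F) ≃ₗ[F] (ι → F))
    ((z : (ι → F) ≃ₗ[F] (ι → F)) x))) = _
  rw [hy, hz, hy, hz, Matrix.mulVec_mulVec, Matrix.mulVec_mulVec, Matrix.mulVec_mulVec]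
  congr 1
  have e2 : ∀ M : Matrix ι ι F, M + M = 0 := fun M => by rw [← two_smul F, CharTwo.two_eq_zero, zero_smul]
  have hABB : A * B * B = 0 := by rw [mul_assoc, hB2, mul_zero]
  have hBAA : B * A * A = 0 := by rw [mul_assoc, hA2, mul_zero]
  simp only [mul_add, add_mul, one_mul, mul_one, ← mul_assoc, hA2, hB2, hABA, hBAB, hABB, hBAA, zero_mul, mul_zero,
    add_zero, zero_add]
  calc _ = 1 + (A * B + B * A) + ((A + A) + (B + B) + (A * B + A * B)) := by abel
    _ = _ := by simp only [e2, add_zero]

/-- `1 + X_i X_j`. -/
theorem exists_two (hv : Hyp v Q c) {i j m : L} (hij : i ≠ j) (him : i ≠ m) (hjm : j ≠ m) :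
    ∃ g ∈ Cfsg.Geo.omegaGL ⇑Q, (g : Matrix ι ι F) = 1 + D v i true * D v j true := by
  have c1 := D_comm v him true true
  have c2 := D_comm v hjm.symm false true
  have c3 := D_comm v hij true true
  have c4 := D_comm v him true false
  obtain ⟨g, hg, hge⟩ := exists_omega hv (A := D v i true * D v m true) (B := D v m false * D v j true)
    (changes_mul v (changes_D v i true) (changes_D v m true))
    (fun e => by have : j ∈ ({i} ∪ {m} : Finset L) := e ▸ Finset.mem_univ j; simp [hij.symm, hjm] at this)
    (selfAdj_mul (selfAdj_D hv _ _) (selfAdj_D hv _ _) c1)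
    (by rw [mul_assoc, ← mul_assoc (D v m true), ← c1, mul_assoc (D v i true), D_sq, mul_zero, mul_zero])
    (changes_mul v (changes_D v m false) (changes_D v j true))
    (fun e => by have : i ∈ ({m} ∪ {j} : Finset L) := e ▸ Finset.mem_univ i; simp [hij, him] at this)
    (selfAdj_mul (selfAdj_D hv _ _) (selfAdj_D hv _ _) c2)
    (by rw [mul_assoc, ← mul_assoc (D v j true), ← c2, mul_assoc (D v m false), D_sq, mul_zero, mul_zero])
    (by
      calc D v i true * D v m true * (D v m false * D v j true) * (D v i true * D v m true)
          = D v i true * D v m true * D v m false * ((D v j true * D v i true) * D v m true) := by simp only [mul_assoc]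
        _ = D v i true * (D v m true * D v m false * D v i true) * (D v j true * D v m true) := by
            rw [← c3]; simp only [mul_assoc]
        _ = D v i true * D v i true * (D v m true * D v m false) * (D v j true * D v m true) := by
            rw [show D v m true * D v m false * D v i true = D v i true * (D v m true * D v m false) by
              rw [mul_assoc, ← c4, ← mul_assoc, ← c1, mul_assoc], mul_assoc (D v i true) (D v i true)]
        _ = 0 := by rw [D_sq, zero_mul, zero_mul])
    (by
      have c5 := D_comm v hjm.symm true true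
      calc D v m false * D v j true * (D v i true * D v m true) * (D v m false * D v j true)
          = D v m false * (D v j true * (D v i true * D v m true * D v m false)) * D v j true := by simp only [mul_assoc]
        _ = D v m false * (D v i true * D v m true * D v m false) * (D v j true * D v j true) := by
            rw [show D v j true * (D v i true * D v m true * D v m false) =
                D v i true * D v m true * D v m false * D v j true by
              rw [← mul_assoc, ← mul_assoc, ← c3, mul_assoc (D v i true), ← c5, ← mul_assoc, mul_assoc _ (D v j true),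
                ← c2, ← mul_assoc]]
            simp only [mul_assoc]
        _ = 0 := by rw [D_sq, mul_zero])
  refine ⟨g, hg, hge.trans ?_⟩
  congr 1
  calc D v i true * D v m true * (D v m false * D v j true) + D v m false * D v j true * (D v i true * D v m true)
      = D v i true * (D v m true * D v m false * D v j true) + D v i true * (D v m false * D v m true * D v j true) := by
        have c5 := D_comm v hjm.symm true true
        congr 1
        · simp only [mul_assoc]
        · rw [mul_assoc (D v m false), ← mul_assoc (D v j true), ← c3, mul_assoc (D v i true) (D v j true), ← c5,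
            ← mul_assoc (D v m false) (D v i true), ← c4, mul_assoc (D v i true), ← mul_assoc (D v m false)]
    _ = D v i true * D v j true := by
        rw [← mul_add, ← add_mul]
        have := D_anti v m true
        rw [Bool.not_true] at this
        rw [this, one_mul]

/-- `1 + X_i X_j X_p`. -/
theorem exists_three (hv : Hyp v Q c) {i j p m : L} (hij : i ≠ j) (hip : i ≠ p) (hjp : j ≠ p) (him : i ≠ m)
    (hjm : j ≠ m) (hpm : p ≠ m) :
    ∃ g ∈ Cfsg.Geo.omegaGL ⇑Q, (g : Matrix ι ι F) = 1 + D v i true * (D v j true * D v p true) := by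
  obtain ⟨N, hN⟩ : ∃ N, N = D v j true * D v p true := ⟨_, rfl⟩
  rw [← hN]
  have hcN : ∀ (l : L) (ε : Bool), l ≠ j → l ≠ p → D v l ε * N = N * D v l ε := fun l ε h h' => by
    rw [hN, ← mul_assoc, D_comm v h ε true, mul_assoc, D_comm v h' ε true, mul_assoc]
  have hNN : N * N = 0 := by
    rw [hN, mul_assoc, ← mul_assoc (D v p true), ← D_comm v hjp true true, mul_assoc (D v j true), D_sq, mul_zero,
      mul_zero]
  have c1 := D_comm v him true true
  have c4 := D_comm v him true false
  have ci := hcN i true hij hip
  have cm := hcN m true hjm.symm hpm.symm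
  have cm' := hcN m false hjm.symm hpm.symm
  obtain ⟨g, hg, hge⟩ := exists_omega hv (A := D v i true * D v m true) (B := D v m false * N)
    (changes_mul v (changes_D v i true) (changes_D v m true))
    (fun e => by have : j ∈ ({i} ∪ {m} : Finset L) := e ▸ Finset.mem_univ j; simp [hij.symm, hjm] at this)
    (selfAdj_mul (selfAdj_D hv _ _) (selfAdj_D hv _ _) c1)
    (by rw [mul_assoc, ← mul_assoc (D v m true), ← c1, mul_assoc (D v i true), D_sq, mul_zero, mul_zero])
    (changes_mul v (changes_D v m false) (hN ▸ changes_mul v (changes_D v j true) (changes_D v p true)))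
    (fun e => by
      have : i ∈ ({m} ∪ ({j} ∪ {p}) : Finset L) := e ▸ Finset.mem_univ i
      simp [hij, him, hip] at this)
    (selfAdj_mul (selfAdj_D hv _ _) (hN ▸ selfAdj_mul (selfAdj_D hv _ _) (selfAdj_D hv _ _) (D_comm v hjp true true)) cm')
    (by rw [mul_assoc, ← mul_assoc N, ← cm', mul_assoc (D v m false), hNN, mul_zero, mul_zero])
    (by
      calc D v i true * D v m true * (D v m false * N) * (D v i true * D v m true)
          = D v i true * (D v m true * D v m false * N * D v i true) * D v m true := by simp only [mul_assoc]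
        _ = D v i true * (D v i true * (D v m true * D v m false * N)) * D v m true := by
            rw [show D v m true * D v m false * N * D v i true = D v i true * (D v m true * D v m false * N) by
              rw [mul_assoc _ N, ← ci, ← mul_assoc, mul_assoc (D v m true), ← c4, ← mul_assoc, ← c1, mul_assoc,
                mul_assoc, mul_assoc]]
        _ = 0 := by rw [← mul_assoc (D v i true), D_sq, zero_mul, zero_mul])
    (by
      calc D v m false * N * (D v i true * D v m true) * (D v m false * N)
          = D v m false * (N * (D v i true * D v m true * D v m false)) * N := by simp only [mul_assoc]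
        _ = D v m false * (D v i true * D v m true * D v m false) * (N * N) := by
            rw [show N * (D v i true * D v m true * D v m false) = D v i true * D v m true * D v m false * N by
              rw [← mul_assoc, ← mul_assoc, ← ci, mul_assoc (D v i true), ← cm, ← mul_assoc, mul_assoc _ N, ← cm',
                ← mul_assoc]]
            simp only [mul_assoc]
        _ = 0 := by rw [hNN, mul_zero])
  refine ⟨g, hg, hge.trans ?_⟩
  congr 1
  calc D v i true * D v m true * (D v m false * N) + D v m false * N * (D v i true * D v m true)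
      = D v i true * (D v m true * D v m false * N) + D v i true * (D v m false * D v m true * N) := by
        congr 1
        · simp only [mul_assoc]
        · rw [mul_assoc (D v m false), ← mul_assoc N, ← ci, mul_assoc (D v i true) N, ← cm,
            ← mul_assoc (D v m false) (D v i true), ← c4, mul_assoc (D v i true), ← mul_assoc (D v m false)]
    _ = D v i true * N := by
        rw [← mul_add, ← add_mul]
        have := D_anti v m true
        rw [Bool.not_true] at this
        rw [this, one_mul]

variable (v)

/-- The span of the identity and the slot operators. -/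
noncomputable def W : Submodule F (Matrix ι ι F) :=
  Submodule.span F (insert 1 (Set.range fun p : L × Bool => D v p.1 p.2))

theorem D_mem (l : L) (ε : Bool) : D v l ε ∈ W v := Submodule.subset_span (Or.inr ⟨(l, ε), rfl⟩)

/-- The elements whose conjugation preserves a space of matrices. -/
def conjStab (U : Submodule F (Matrix ι ι F)) : Subgroup (GL ι F) where
  carrier := {g | ∀ X, X ∈ U ↔ (g : Matrix ι ι F) * X * ((g⁻¹ : GL ι F) : Matrix ι ι F) ∈ U}
  one_mem' := fun X => by simp
  mul_mem' := fun {a b} ha hb X => by
    rw [hb X, ha, mul_inv_rev, Units.val_mul, Units.val_mul]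
    simp only [mul_assoc]
  inv_mem' := fun {a} ha X => by
    have h := ha (((a⁻¹ : GL ι F) : Matrix ι ι F) * X * (a : Matrix ι ι F))
    rw [inv_inv]
    rw [h]
    simp only [mul_assoc, Units.mul_inv, mul_one]
    rw [← mul_assoc, Units.mul_inv, one_mul]

theorem mem_conjStab_of_gen {g : GL ι F}
    (h : ∀ l ε, (g : Matrix ι ι F) * D v l ε * ((g⁻¹ : GL ι F) : Matrix ι ι F) ∈ W v)
    (h' : ∀ l ε, ((g⁻¹ : GL ι F) : Matrix ι ι F) * D v l ε * (g : Matrix ι ι F) ∈ W v) :
    g ∈ conjStab (W v) := by
  have key : ∀ k : GL ι F, (∀ l ε, (k : Matrix ι ι F) * D v l ε * ((k⁻¹ : GL ι F) : Matrix ι ι F) ∈ W v) →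
      ∀ X ∈ W v, (k : Matrix ι ι F) * X * ((k⁻¹ : GL ι F) : Matrix ι ι F) ∈ W v := by
    intro k hk X hX
    induction hX using Submodule.span_induction with
    | mem X hX =>
      rcases hX with rfl | ⟨⟨l, ε⟩, rfl⟩
      · rw [mul_one, Units.mul_inv]; exact Submodule.subset_span (Or.inl rfl)
      · exact hk l ε
    | zero => rw [mul_zero, zero_mul]; exact (W v).zero_mem
    | add X Y _ _ hX hY => rw [mul_add, add_mul]; exact (W v).add_mem hX hY
    | smul r X _ hX => rw [mul_smul_comm, smul_mul_assoc]; exact (W v).smul_mem r hX
  intro X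
  refine ⟨key g h X, fun hX => ?_⟩
  have := key g⁻¹ (by simpa using h') _ hX
  rw [inv_inv] at this
  simpa [mul_assoc, ← mul_assoc ((g⁻¹ : GL ι F) : Matrix ι ι F)] using this

theorem two_mem {i j : L} (hij : i ≠ j) {g : GL ι F} (hg : (g : Matrix ι ι F) = 1 + D v i true * D v j true) :
    g ∈ conjStab (W v) ∧ (g : Matrix ι ι F) * D v i false * (g : Matrix ι ι F) = D v i false + D v j true ∧
      ((g⁻¹ : GL ι F) : Matrix ι ι F) = (g : Matrix ι ι F) := by
  set N := D v i true * D v j true with hN
  have c := D_comm v hij true true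
  have hNN : N * N = 0 := by
    rw [hN, mul_assoc, ← mul_assoc (D v j true), ← c, mul_assoc (D v i true), D_sq, mul_zero, mul_zero]
  have hinv : ((g⁻¹ : GL ι F) : Matrix ι ι F) = (g : Matrix ι ι F) :=
    Units.inv_eq_of_mul_eq_one_right (by rw [hg, one_add_sq hNN])
  have e2 : ∀ M : Matrix ι ι F, M + M = 0 := fun M => by rw [← two_smul F, CharTwo.two_eq_zero, zero_smul]
  have conj : ∀ X, (g : Matrix ι ι F) * X * (g : Matrix ι ι F) = X + (N * X + X * N) + N * X * N := fun X => by
    rw [hg]; simp only [add_mul, mul_add, one_mul, mul_one]; abel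
  -- conjugates of the generators of a crossing pair
  have main : ∀ {p q : L}, p ≠ q → N = D v p true * D v q true →
      (g : Matrix ι ι F) * D v p false * (g : Matrix ι ι F) = D v p false + D v q true ∧
        (g : Matrix ι ι F) * D v p true * (g : Matrix ι ι F) = D v p true := by
    intro p q hpq hN'
    have cq := D_comm v hpq false true
    have cp := D_comm v hpq true true
    have e1 : N * D v p false + D v p false * N = D v q true := by
      rw [hN', mul_assoc, ← cq, ← mul_assoc, ← mul_assoc, ← add_mul]
      have := D_anti v p true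
      rw [Bool.not_true] at this
      rw [this, one_mul]
    have e3 : ∀ ε, N * D v p ε * N = 0 := fun ε => by
      have cε := D_comm v hpq ε true
      calc N * D v p ε * N = D v p true * (D v q true * D v p ε) * (D v p true * D v q true) := by
            rw [hN']; simp only [mul_assoc]
        _ = D v p true * D v p ε * (D v q true * (D v p true * D v q true)) := by rw [← cε]; simp only [mul_assoc]
        _ = 0 := by
            rw [cp, ← mul_assoc (D v q true), D_sq, zero_mul, mul_zero]
    refine ⟨by rw [conj, e1, e3, add_zero], ?_⟩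
    rw [conj, e3, add_zero]
    have h1 : N * D v p true = 0 := by rw [hN', mul_assoc, ← cp, ← mul_assoc, D_sq, zero_mul]
    have h2 : D v p true * N = 0 := by rw [hN', ← mul_assoc, D_sq, zero_mul]
    rw [h1, h2, add_zero, add_zero]
  have hmem : ∀ l ε, (g : Matrix ι ι F) * D v l ε * (g : Matrix ι ι F) ∈ W v := by
    intro l ε
    by_cases hi : l = i
    · subst hi
      cases ε
      · rw [(main hij hN).1]; exact (W v).add_mem (D_mem v _ _) (D_mem v _ _)
      · rw [(main hij hN).2]; exact D_mem v _ _
    by_cases hj : l = j
    · subst hj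
      cases ε
      · rw [(main hij.symm (hN.trans c)).1]; exact (W v).add_mem (D_mem v _ _) (D_mem v _ _)
      · rw [(main hij.symm (hN.trans c)).2]; exact D_mem v _ _
    · have hc : N * D v l ε = D v l ε * N := by
        rw [hN, mul_assoc, D_comm v (Ne.symm hj) true ε, ← mul_assoc, D_comm v (Ne.symm hi) true ε, mul_assoc]
      rw [conj, hc, e2, add_zero, mul_assoc, hNN, mul_zero, add_zero]
      exact D_mem v _ _
  exact ⟨mem_conjStab_of_gen v (by rw [hinv]; exact hmem) (by rw [hinv]; exact hmem), (main hij hN).1, hinv⟩

theorem three_not_mem (hc : Hyp v Q c) {i j p : L} (hij : i ≠ j) (hip : i ≠ p) (hjp : j ≠ p) {g : GL ι F}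
    (hg : (g : Matrix ι ι F) = 1 + D v i true * (D v j true * D v p true)) : g ∉ conjStab (W v) := by
  intro hmem
  obtain ⟨M, hM⟩ : ∃ M, M = D v j true * D v p true := ⟨_, rfl⟩
  rw [← hM] at hg
  have ci : ∀ ε, D v i ε * M = M * D v i ε := fun ε => by
    rw [hM, ← mul_assoc, D_comm v hij ε true, mul_assoc, D_comm v hip ε true, mul_assoc]
  have hMM : M * M = 0 := by
    rw [hM, mul_assoc, ← mul_assoc (D v p true), ← D_comm v hjp true true, mul_assoc (D v j true), D_sq, mul_zero,
      mul_zero]
  have hNN : D v i true * M * (D v i true * M) = 0 := by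
    rw [mul_assoc, ← mul_assoc M, ← ci, mul_assoc (D v i true) M, hMM, mul_zero, mul_zero]
  have hinv : ((g⁻¹ : GL ι F) : Matrix ι ι F) = (g : Matrix ι ι F) :=
    Units.inv_eq_of_mul_eq_one_right (by rw [hg, one_add_sq hNN])
  have h := (hmem (D v i false)).1 (D_mem v i false)
  rw [hinv, hg] at h
  have e : (1 + D v i true * M) * D v i false * (1 + D v i true * M) = D v i false + M := by
    have h3 : D v i true * M * D v i false * (D v i true * M) = 0 := by
      rw [mul_assoc (D v i true) M, ← ci]
      simp only [mul_assoc]
      rw [← mul_assoc M, ← ci, mul_assoc (D v i true) M, hMM, mul_zero, mul_zero, mul_zero]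
    have h4 : D v i true * M * D v i false + D v i false * (D v i true * M) = M := by
      rw [mul_assoc, ← ci, ← mul_assoc, ← mul_assoc, ← add_mul]
      have := D_anti v i true
      rw [Bool.not_true] at this
      rw [this, one_mul]
    simp only [add_mul, mul_add, one_mul, mul_one]
    calc _ = D v i false + (D v i true * M * D v i false + D v i false * (D v i true * M)) +
          D v i true * M * D v i false * (D v i true * M) := by abel
      _ = _ := by rw [h3, h4, add_zero]
  rw [e] at h
  let a : L → Bool := fun _ => false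
  let b : L → Bool := fun l => if l = j ∨ l = p then true else false
  let φ : Matrix ι ι F →ₗ[F] F :=
    { toFun := fun X => polar Q (X *ᵥ v a) (v fun l => !b l)
      map_add' := fun X Y => by rw [Matrix.add_mulVec, polar_add_left]
      map_smul' := fun r X => by rw [Matrix.smul_mulVec, polar_smul_left']; rfl }
  have hzero : ∀ d, d ≠ b → polar Q (v d) (v fun l => !b l) = 0 := fun d hd => by
    rw [hc.pair, if_neg fun e => hd (funext fun l => by simpa using (congrFun e l).symm)]
  have hW : W v ≤ LinearMap.ker φ := by
    rw [W, Submodule.span_le]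
    rintro X (rfl | ⟨⟨l, ε⟩, rfl⟩)
    · show polar Q ((1 : Matrix ι ι F) *ᵥ v a) _ = 0
      rw [Matrix.one_mulVec, hzero]
      intro e
      simpa [a, b] using congrFun e j
    · show polar Q (D v l ε *ᵥ v a) _ = 0
      rw [D_apply]
      split_ifs
      · rw [polar_zero_left]
      · refine hzero _ fun e => ?_
        by_cases hl : l = j
        · have := congrFun e p
          rw [Function.update_of_ne (by rw [hl]; exact hjp.symm)] at this
          simp [a, b] at this
        · have := congrFun e j
          rw [Function.update_of_ne (Ne.symm hl)] at this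
          simp [a, b] at this
  have h1 : φ M = 0 := by
    have h2 := hW h
    have h3 := hW (D_mem v i false)
    rw [LinearMap.mem_ker, map_add] at h2
    rw [LinearMap.mem_ker] at h3
    rwa [h3, zero_add] at h2
  have h5 : M *ᵥ v a = v b := by
    rw [hM, ← Matrix.mulVec_mulVec, D_apply, if_neg (by simp [a]), D_apply,
      if_neg (by rw [Function.update_of_ne hjp]; simp [a])]
    congr 1
    funext l
    by_cases hl : l = j
    · subst hl; simp [b]
    by_cases hl' : l = p
    · subst hl'; simp [b, Function.update_of_ne hl]
    · simp [a, b, hl, hl', Function.update_of_ne hl, Function.update_of_ne hl']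
  refine hc.ne ?_
  have : φ M = c := by
    show polar Q (M *ᵥ v a) _ = c
    rw [h5, hc.pair, if_pos rfl]
  rw [← this, h1]

end CfsgLib.NotMax.Spin
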