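import Cfsg.Agent.Lib.NotMax.Spin
import Cfsg.Agent.Lib.NotMax.SpTwoTensor
import Cfsg.Agent.Lib.AschbacherOrth.OddRows

/-!
`Sp_k(q) wr S_t` on a tensor power, `k ≤ 4`, characteristic two: the stabiliser of the spin operators lies above it.
-/

set_option autoImplicit false
set_option linter.unusedSectionVars false

namespace CfsgLib.NotMax.Spin

open QuadraticMap Cfsg Cfsg.Geo CfsgLib.Geometry CfsgLib.Aschbacher
open scoped Matrix MatrixGroups

variable {F : Type*} [Field F] [CharP F 2]

/-! ### One factor -/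

section loc

variable {k l : ℕ} {f : (Fin k → F) → (Fin k → F) → F}

/-- A hyperbolic basis of the factor. -/
def HypLoc (f : (Fin k → F) → (Fin k → F) → F) (u : Module.Basis (Fin l → Bool) F (Fin k → F)) : Prop :=
  ∀ a b, f (u a) (u b) = if b = (fun j => !a j) then 1 else 0

theorem symp_symm (hf : IsSymplecticForm f) (x y : Fin k → F) : f x y = f y x := by
  rw [hf.skew, CharTwo.neg_eq]

theorem symp_zero_left (hf : IsSymplecticForm f) (x : Fin k → F) : f 0 x = 0 := by
  rw [← zero_smul F x, hf.bilinear.smul_left, zero_mul]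

theorem basis_of_hyp (hf : IsBilinearForm f) (u : (Fin l → Bool) → Fin k → F) (hk : k = 2 ^ l)
    (hu : ∀ a b, f (u a) (u b) = if b = (fun j => !a j) then 1 else 0) :
    ∃ U : Module.Basis (Fin l → Bool) F (Fin k → F), ∀ a, U a = u a := by
  classical
  have hli : LinearIndependent F u := by
    rw [Fintype.linearIndependent_iff]
    intro r hr b
    let φ : (Fin k → F) →ₗ[F] F :=
      { toFun := fun x => f x (u fun j => !b j)
        map_add' := fun x y => hf.add_left x y _
        map_smul' := fun c x => hf.smul_left c x _ }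
    have h := congrArg φ hr
    simp only [map_sum, map_smul, map_zero] at h
    rw [Finset.sum_eq_single b (fun a _ ha => ?_) (by simp)] at h
    · simpa [φ, hu] using h
    · show r a • f (u a) (u fun j => !b j) = 0
      rw [hu, if_neg, smul_zero]
      exact fun e => ha (funext fun j => by simpa using (congrFun e j).symm)
  exact ⟨basisOfLinearIndependentOfCardEqFinrank hli (by simp [hk]), fun a => by simp⟩

theorem exists_hyp_loc [Fintype F] (hf : IsSymplecticForm f) (hk0 : 0 < k) (hk : k ≤ 4) :
    ∃ l, (l = 1 ∨ l = 2) ∧ k = 2 ^ l ∧ ∃ U : Module.Basis (Fin l → Bool) F (Fin k → F), HypLoc f U := by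
  classical
  have h1 := hf.alternating
  have sy := symp_symm hf
  let x : Fin k → F := Pi.single ⟨0, hk0⟩ 1
  have hx : x ≠ 0 := by simp [x]
  obtain ⟨y, hy⟩ := exists_partner_form hf hx
  have hli2 : LinearIndependent F ![x, y] := LinearIndependent.pair_iff.2 fun a b hab => by
    have e1 := congrArg (fun z => f z y) hab
    have e2 := congrArg (fun z => f z x) hab
    simp only [hf.bilinear.add_left, hf.bilinear.smul_left, h1, hy, sy y x, symp_zero_left hf] at e1 e2
    exact ⟨by linear_combination e1, by linear_combination e2⟩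
  have hk2 : 2 ≤ k := by
    have := hli2.fintype_card_le_finrank
    rw [Fintype.card_fin, Module.finrank_fin_fun] at this
    exact this
  rcases Nat.eq_or_lt_of_le hk2 with h | h
  · subst h
    obtain ⟨U, hU⟩ := basis_of_hyp (l := 1) hf.bilinear (fun a => if a 0 = true then y else x) rfl fun a b => by
      rcases Bool.eq_false_or_eq_true (a 0) with ha | ha <;> rcases Bool.eq_false_or_eq_true (b 0) with hb | hb <;>
        simp [ha, hb, funext_iff, Fin.forall_fin_one, h1, hy, sy y x]
    exact ⟨1, Or.inl rfl, rfl, U, fun a b => by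
      rw [hU, hU]
      rcases Bool.eq_false_or_eq_true (a 0) with ha | ha <;> rcases Bool.eq_false_or_eq_true (b 0) with hb | hb <;>
        simp [ha, hb, funext_iff, Fin.forall_fin_one, h1, hy, sy y x]⟩
  obtain ⟨z, hz0, hz⟩ := exists_perp_form h hf ![x, y]
  have hxz : f x z = 0 := hz 0
  have hyz : f y z = 0 := hz 1
  obtain ⟨w₀, hw₀⟩ := exists_partner_form hf hz0
  set w := w₀ + f y w₀ • x + f x w₀ • y
  have hzw : f z w = 1 := by
    simp [w, hf.bilinear.add_right, hf.bilinear.smul_right, hw₀, sy z x, sy z y, hxz, hyz]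
  have hxw : f x w = 0 := by
    simp [w, hf.bilinear.add_right, hf.bilinear.smul_right, h1, hy, CharTwo.add_self_eq_zero]
  have hyw : f y w = 0 := by
    simp [w, hf.bilinear.add_right, hf.bilinear.smul_right, h1, sy y x, hy, CharTwo.add_self_eq_zero]
  have hli4 : LinearIndependent F ![x, y, z, w] := by
    rw [Fintype.linearIndependent_iff]
    intro g hg
    simp [Fin.sum_univ_four] at hg
    have e0 := congrArg (fun v => f v y) hg
    have e1 := congrArg (fun v => f v x) hg
    have e2 := congrArg (fun v => f v w) hg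
    have e3 := congrArg (fun v => f v z) hg
    simp only [hf.bilinear.add_left, hf.bilinear.smul_left, h1, hy, hzw, sy y x, sy z x, sy z y, sy w x, sy w y,
      sy w z, hxz, hyz, hxw, hyw, symp_zero_left hf] at e0 e1 e2 e3
    intro i
    fin_cases i
    · show g 0 = 0; linear_combination e0
    · show g 1 = 0; linear_combination e1
    · show g 2 = 0; linear_combination e2
    · show g 3 = 0; linear_combination e3
  have hk4 : k = 4 := by
    have := hli4.fintype_card_le_finrank
    rw [Fintype.card_fin, Module.finrank_fin_fun] at this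
    omega
  let u : (Fin 2 → Bool) → Fin k → F := fun a =>
    if a 0 = true then (if a 1 = true then y else w) else (if a 1 = true then z else x)
  have hu : ∀ a b, f (u a) (u b) = if b = (fun j => !a j) then 1 else 0 := fun a b => by
    rcases Bool.eq_false_or_eq_true (a 0) with ha | ha <;> rcases Bool.eq_false_or_eq_true (b 0) with hb | hb <;>
      rcases Bool.eq_false_or_eq_true (a 1) with hc | hc <;> rcases Bool.eq_false_or_eq_true (b 1) with hd | hd <;>
      simp [u, ha, hb, hc, hd, funext_iff, Fin.forall_fin_two, h1, hy, hzw, hxz, hyz, hxw, hyw, sy y x, sy z x, sy z y,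
        sy w x, sy w y, sy w z]
  obtain ⟨U, hU⟩ := basis_of_hyp (l := 2) hf.bilinear u (by rw [hk4]; rfl) hu
  exact ⟨2, Or.inr rfl, by rw [hk4]; rfl, U, fun a b => by rw [hU, hU]; exact hu a b⟩

theorem loc_expand (hf : IsBilinearForm f) {U : Module.Basis (Fin l → Bool) F (Fin k → F)} (hU : HypLoc f U)
    (x : Fin k → F) : x = ∑ a, f x (U fun j => !a j) • U a := by
  classical
  conv_lhs => rw [← U.sum_repr x]
  refine Finset.sum_congr rfl fun a _ => ?_
  congr 1
  let φ : (Fin k → F) →ₗ[F] F :=
    { toFun := fun z => f z (U fun j => !a j)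
      map_add' := fun z z' => hf.add_left z z' _
      map_smul' := fun r z => hf.smul_left r z _ }
  show _ = φ x
  conv_rhs => rw [← U.sum_repr x]
  rw [map_sum, Finset.sum_eq_single a (fun b _ hb => ?_) (by simp), map_smul]
  · simp [φ, hU a]
  · rw [map_smul]
    show U.repr x b • f (U b) (U fun j => !a j) = 0
    rw [hU, if_neg, smul_zero]
    exact fun e => hb (funext fun j => by simpa using (congrFun e j).symm)

/-- The conditions cutting out the spin operators in one factor. -/
def LocCond (f : (Fin k → F) → (Fin k → F) → F) (l : ℕ) (Y : Matrix (Fin k) (Fin k) F) : Prop :=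
  (∃ d : F, Y * Y = d • 1) ∧ (l = 2 → ∀ x, f (Y *ᵥ x) x = 0)

theorem locCond_D (hf : IsSymplecticForm f) {U : Module.Basis (Fin l → Bool) F (Fin k → F)} (hU : HypLoc f U)
    (j : Fin l) (ε : Bool) : LocCond f l (D U j ε) := by
  refine ⟨⟨0, by rw [D_sq, zero_smul]⟩, ?_⟩
  intro hl x
  subst hl
  have hsa : ∀ a b, f (D U j ε *ᵥ U a) (U b) = f (D U j ε *ᵥ U b) (U a) := by
    intro a b
    rw [D_apply, D_apply]
    have key : ∀ (j : Fin 2) (ε : Bool) (a b : Fin 2 → Bool),
        (¬ a j = ε ∧ b = fun i => !(Function.update a j ε i)) ↔ (¬ b j = ε ∧ a = fun i => !(Function.update b j ε i)) := by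
      decide
    have h := key j ε a b
    split_ifs with h1 h2 h2
    · rw [symp_zero_left hf, symp_zero_left hf]
    · rw [symp_zero_left hf, hU, if_neg fun e => (h.2 ⟨h2, e⟩).1 h1]
    · rw [symp_zero_left hf, hU, if_neg fun e => (h.1 ⟨h1, e⟩).1 h2]
    · rw [hU, hU]
      exact if_congr ⟨fun e => (h.1 ⟨h1, e⟩).2, fun e => (h.2 ⟨h2, e⟩).2⟩ rfl rfl
  have hdiag : ∀ a, f (D U j ε *ᵥ U a) (U a) = 0 := by
    intro a
    rw [D_apply]
    split_ifs with h1
    · exact symp_zero_left hf _
    · have key : ∀ (j : Fin 2) (ε : Bool) (a : Fin 2 → Bool), a ≠ fun i => !(Function.update a j ε i) := by decide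
      rw [hU, if_neg (key j ε a)]
  let B : LinearMap.BilinForm F (Fin k → F) := (LinearMap.mk₂ F f hf.bilinear.add_left hf.bilinear.smul_left
    hf.bilinear.add_right hf.bilinear.smul_right).comp (Matrix.toLin' (D U j ε))
  have hBS : ∀ y z, B y z = B z y := by
    have : B = LinearMap.flip B := U.ext fun a => U.ext fun b => by
      simpa [B, Matrix.toLin'_apply] using hsa a b
    intro y z
    conv_lhs => rw [this]
    rfl
  have : B x x = 0 := by
    have hx : x ∈ Submodule.span F (Set.range U) := U.mem_span x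
    induction hx using Submodule.span_induction with
    | mem y hy => obtain ⟨a, rfl⟩ := hy; simpa [B, Matrix.toLin'_apply] using hdiag a
    | zero => simp
    | add y z _ _ hy hz =>
      simp only [map_add, LinearMap.add_apply, hy, hz, zero_add, add_zero]
      rw [hBS z y, CharTwo.add_self_eq_zero]
    | smul r y _ hy => simp only [map_smul, LinearMap.smul_apply, hy, smul_zero]
  simpa [B, Matrix.toLin'_apply] using this

theorem loc_span (hf : IsSymplecticForm f) (hl : l = 1 ∨ l = 2) {U : Module.Basis (Fin l → Bool) F (Fin k → F)}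
    (hU : HypLoc f U) {Y : Matrix (Fin k) (Fin k) F} (hY : LocCond f l Y) :
    Y ∈ Submodule.span F (insert 1 (Set.range fun p : Fin l × Bool => D U p.1 p.2)) := by
  classical
  obtain ⟨⟨d, hd⟩, halt⟩ := hY
  set S := Submodule.span F (insert 1 (Set.range fun p : Fin l × Bool => D U p.1 p.2))
  have h1S : (1 : Matrix (Fin k) (Fin k) F) ∈ S := Submodule.subset_span (Or.inl rfl)
  have hDS : ∀ j ε, D U j ε ∈ S := fun j ε => Submodule.subset_span (Or.inr ⟨(j, ε), rfl⟩)
  have hYY : ∀ a, Y *ᵥ (Y *ᵥ U a) = d • U a := fun a => by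
    rw [Matrix.mulVec_mulVec, hd, Matrix.smul_mulVec, Matrix.one_mulVec]
  have fz : ∀ r (z w : Fin k → F), f (r • z) w = r * f z w := hf.bilinear.smul_left
  rcases hl with rfl | rfl
  · let c0 : Fin 1 → Bool := fun _ => false
    let c1 : Fin 1 → Bool := fun _ => true
    have huniv : (Finset.univ : Finset (Fin 1 → Bool)) = {c0, c1} := by decide
    set p := f (Y *ᵥ U c0) (U c1) with hp
    set r := f (Y *ᵥ U c0) (U c0) with hr
    set q := f (Y *ᵥ U c1) (U c1) with hq
    set s := f (Y *ᵥ U c1) (U c0) with hs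
    have e0 : Y *ᵥ U c0 = p • U c0 + r • U c1 := by
      conv_lhs => rw [loc_expand hf.bilinear hU (Y *ᵥ U c0)]
      rw [huniv, Finset.sum_insert (by decide), Finset.sum_singleton]
      rfl
    have e1 : Y *ᵥ U c1 = q • U c0 + s • U c1 := by
      conv_lhs => rw [loc_expand hf.bilinear hU (Y *ᵥ U c1)]
      rw [huniv, Finset.sum_insert (by decide), Finset.sum_singleton]
      rfl
    have g00 : f (U c0) (U c0) = 0 := hf.alternating _
    have g11 : f (U c1) (U c1) = 0 := hf.alternating _
    have g01 : f (U c0) (U c1) = 1 := by rw [hU, if_pos (by decide)]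
    have g10 : f (U c1) (U c0) = 1 := by rw [hU, if_pos (by decide)]
    have q0 := congrArg (fun z => f z (U c1)) (hYY c0)
    have q1 := congrArg (fun z => f z (U c0)) (hYY c1)
    simp only [e0, e1, Matrix.mulVec_add, Matrix.mulVec_smul, hf.bilinear.add_left, fz, g00, g11, g01, g10] at q0 q1
    have hps : p = s := by
      have h : (p + s) * (p + s) = 0 := by
        linear_combination q0 + q1 + (p * s - r * q) * (CharTwo.two_eq_zero : (2 : F) = 0) +
          d * (CharTwo.two_eq_zero : (2 : F) = 0)
      exact CharTwo.add_eq_zero.1 (mul_self_eq_zero.1 h)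
    have hYe : Y = p • 1 + r • D U 0 true + q • D U 0 false := by
      refine ext_basis U fun a => ?_
      have ha : a = c0 ∨ a = c1 := by revert a; decide
      rcases ha with rfl | rfl
      · rw [e0]
        simp [Matrix.add_mulVec, Matrix.smul_mulVec, D_apply, c0, c1,
          show Function.update c0 0 true = c1 by decide]
      · rw [e1, ← hps]
        simp [Matrix.add_mulVec, Matrix.smul_mulVec, D_apply, c0, c1,
          show Function.update c1 0 false = c0 by decide, add_comm]
    rw [hYe]
    exact S.add_mem (S.add_mem (S.smul_mem _ h1S) (S.smul_mem _ (hDS _ _))) (S.smul_mem _ (hDS _ _))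
  · have alt := halt rfl
    have sym : ∀ x y, f (Y *ᵥ x) y = f (Y *ᵥ y) x := fun x y => by
      have h := alt (x + y)
      simp only [Matrix.mulVec_add, hf.bilinear.add_left, hf.bilinear.add_right, alt, zero_add, add_zero] at h
      exact CharTwo.add_eq_zero.1 (by linear_combination h)
    let b0 : Fin 2 → Bool := ![false, false]
    let b1 : Fin 2 → Bool := ![false, true]
    let b2 : Fin 2 → Bool := ![true, false]
    let b3 : Fin 2 → Bool := ![true, true]
    have huniv : (Finset.univ : Finset (Fin 2 → Bool)) = {b0, b1, b2, b3} := by decide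
    have n0 : (fun j => !b0 j) = b3 := by decide
    have n1 : (fun j => !b1 j) = b2 := by decide
    have n2 : (fun j => !b2 j) = b1 := by decide
    have n3 : (fun j => !b3 j) = b0 := by decide
    have expand : ∀ z, z = f z (U b3) • U b0 + f z (U b2) • U b1 + f z (U b1) • U b2 + f z (U b0) • U b3 := fun z => by
      conv_lhs => rw [loc_expand hf.bilinear hU z]
      rw [huniv, Finset.sum_insert (by decide), Finset.sum_insert (by decide), Finset.sum_insert (by decide),
        Finset.sum_singleton, n0, n1, n2, n3]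
      abel
    set p := f (Y *ᵥ U b0) (U b3)
    set q := f (Y *ᵥ U b0) (U b2)
    set r := f (Y *ᵥ U b0) (U b1)
    set s := f (Y *ᵥ U b1) (U b3)
    set w := f (Y *ᵥ U b1) (U b2)
    set z := f (Y *ᵥ U b2) (U b3)
    have e0 : Y *ᵥ U b0 = p • U b0 + q • U b1 + r • U b2 := by
      conv_lhs => rw [expand (Y *ᵥ U b0), alt, zero_smul, add_zero]
    have e1 : Y *ᵥ U b1 = s • U b0 + w • U b1 + r • U b3 := by
      conv_lhs => rw [expand (Y *ᵥ U b1), alt, sym (U b1) (U b0), zero_smul, add_zero]
    have e2 : Y *ᵥ U b2 = z • U b0 + w • U b2 + q • U b3 := by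
      conv_lhs => rw [expand (Y *ᵥ U b2), alt, sym (U b2) (U b1), sym (U b2) (U b0), zero_smul, add_zero]
    have e3 : Y *ᵥ U b3 = z • U b1 + s • U b2 + p • U b3 := by
      conv_lhs => rw [expand (Y *ᵥ U b3), alt, sym (U b3) (U b2), sym (U b3) (U b1), sym (U b3) (U b0), zero_smul,
        zero_add]
    have q0 := congrArg (fun v => f v (U b3)) (hYY b0)
    have q1 := congrArg (fun v => f v (U b2)) (hYY b1)
    have g : ∀ a b, f (U a) (U b) = if b = (fun j => !a j) then 1 else 0 := hU
    simp only [e0, e1, e2, e3, Matrix.mulVec_add, Matrix.mulVec_smul, hf.bilinear.add_left, fz, g, n0, n1, n2, n3] at q0 q1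
    simp [show b3 ≠ b2 by decide, show b2 ≠ b3 by decide, show b2 ≠ b1 by decide, show b1 ≠ b2 by decide,
      show b2 ≠ b0 by decide, show b3 ≠ b1 by decide, show b3 ≠ b0 by decide] at q0 q1
    have hpw : p = w := by
      have h : (p + w) * (p + w) = 0 := by
        linear_combination q0 + q1 + (p * w - q * s - r * z + d) * (CharTwo.two_eq_zero : (2 : F) = 0)
      exact CharTwo.add_eq_zero.1 (mul_self_eq_zero.1 h)
    have hYe : Y = p • 1 + q • D U 1 true + r • D U 0 true + s • D U 1 false + z • D U 0 false := by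
      refine ext_basis U fun a => ?_
      have ha : a = b0 ∨ a = b1 ∨ a = b2 ∨ a = b3 := by revert a; decide
      rcases ha with rfl | rfl | rfl | rfl
      · rw [e0]
        simp [Matrix.add_mulVec, Matrix.smul_mulVec, D_apply, show b0 1 = false by decide, show b0 0 = false by decide,
          show Function.update b0 1 true = b1 by decide, show Function.update b0 0 true = b2 by decide]
      · rw [e1, ← hpw]
        simp [Matrix.add_mulVec, Matrix.smul_mulVec, D_apply, show b1 1 = true by decide, show b1 0 = false by decide,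
          show Function.update b1 1 false = b0 by decide, show Function.update b1 0 true = b3 by decide]
        abel
      · rw [e2, ← hpw]
        simp [Matrix.add_mulVec, Matrix.smul_mulVec, D_apply, show b2 1 = false by decide, show b2 0 = true by decide,
          show Function.update b2 1 true = b3 by decide, show Function.update b2 0 false = b0 by decide]
        abel
      · rw [e3]
        simp [Matrix.add_mulVec, Matrix.smul_mulVec, D_apply, show b3 1 = true by decide, show b3 0 = true by decide,
          show Function.update b3 1 false = b2 by decide, show Function.update b3 0 false = b1 by decide]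
        abel
    rw [hYe]
    exact S.add_mem (S.add_mem (S.add_mem (S.add_mem (S.smul_mem _ h1S) (S.smul_mem _ (hDS _ _)))
      (S.smul_mem _ (hDS _ _))) (S.smul_mem _ (hDS _ _))) (S.smul_mem _ (hDS _ _))

end loc

/-! ### The tensor power -/

variable {ι : Type} [Fintype ι] [DecidableEq ι] {k t : ℕ}

/-- A pure tensor. -/
def pureV (e : ι ≃ (Fin t → Fin k)) (P : GL ι F) (xs : Fin t → Fin k → F) : ι → F :=
  (P : Matrix ι ι F) *ᵥ ((fun x : Fin t → Fin k => ∏ i, xs i (x i)) ∘ e)

/-- An operator on one slot. -/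
def op (e : ι ≃ (Fin t → Fin k)) (P : GL ι F) (i : Fin t) (X : Matrix (Fin k) (Fin k) F) : Matrix ι ι F :=
  (P : Matrix ι ι F) * (pure' (Function.update (fun _ => 1) i X)).submatrix e e * ((P⁻¹ : GL ι F) : Matrix ι ι F)

variable (e : ι ≃ (Fin t → Fin k)) (P : GL ι F)

theorem pure'_mulVec (a : Fin t → Matrix (Fin k) (Fin k) F) (xs : Fin t → Fin k → F) :
    pure' a *ᵥ (fun x : Fin t → Fin k => ∏ i, xs i (x i)) = fun x => ∏ i, (a i *ᵥ xs i) (x i) := by
  funext x
  simp only [Matrix.mulVec, dotProduct, pure', Matrix.of_apply, Fintype.prod_sum, ← Finset.prod_mul_distrib]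

theorem op_pureV (i : Fin t) (X : Matrix (Fin k) (Fin k) F) (xs : Fin t → Fin k → F) :
    op e P i X *ᵥ pureV e P xs = pureV e P (Function.update xs i (X *ᵥ xs i)) := by
  rw [op, pureV, pureV, ← Matrix.mulVec_mulVec, ← Matrix.mulVec_mulVec, gl_inv_mulVec,
    Matrix.submatrix_mulVec_equiv, Function.comp_assoc, Equiv.self_comp_symm, Function.comp_id, pure'_mulVec]
  congr 1
  funext y
  simp only [Function.comp_apply]
  refine Finset.prod_congr rfl fun j _ => ?_
  by_cases h : j = i
  · subst h; simp
  · simp [Function.update_of_ne h]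

theorem op_one (i : Fin t) : op e P i 1 = 1 := by
  rw [op, Function.update_eq_self i (fun _ : Fin t => (1 : Matrix (Fin k) (Fin k) F)), pure'_one,
    Matrix.submatrix_one_equiv, mul_one, Units.mul_inv]

theorem op_add (i : Fin t) (X Y : Matrix (Fin k) (Fin k) F) : op e P i (X + Y) = op e P i X + op e P i Y := by
  simp only [op, ← add_mul, ← mul_add]
  congr 2
  ext a b
  simp only [Matrix.add_apply, Matrix.submatrix_apply, pure', Matrix.of_apply]
  rw [← Finset.mul_prod_erase _ _ (Finset.mem_univ i), ← Finset.mul_prod_erase _ _ (Finset.mem_univ i),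
    ← Finset.mul_prod_erase _ _ (Finset.mem_univ i)]
  simp only [Function.update_self, Matrix.add_apply]
  have : ∀ Z : Matrix (Fin k) (Fin k) F,
      ∏ j ∈ Finset.univ.erase i, Function.update (fun _ => (1 : Matrix (Fin k) (Fin k) F)) i Z j (e a j) (e b j) =
      ∏ j ∈ Finset.univ.erase i, (1 : Matrix (Fin k) (Fin k) F) (e a j) (e b j) := fun Z =>
    Finset.prod_congr rfl fun j hj => by rw [Function.update_of_ne (Finset.ne_of_mem_erase hj)]
  rw [this, this, this, add_mul]

theorem op_smul (i : Fin t) (r : F) (X : Matrix (Fin k) (Fin k) F) : op e P i (r • X) = r • op e P i X := by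
  have h : (pure' (Function.update (fun _ => (1 : Matrix (Fin k) (Fin k) F)) i (r • X))).submatrix e e =
      r • (pure' (Function.update (fun _ => (1 : Matrix (Fin k) (Fin k) F)) i X)).submatrix e e := by
    ext a b
    simp only [Matrix.smul_apply, Matrix.submatrix_apply, pure', Matrix.of_apply]
    rw [← Finset.mul_prod_erase _ _ (Finset.mem_univ i), ← Finset.mul_prod_erase _ _ (Finset.mem_univ i)]
    simp only [Function.update_self, Matrix.smul_apply, smul_eq_mul]
    rw [mul_assoc]
    congr 2
    exact Finset.prod_congr rfl fun j hj => by simp only [Function.update_of_ne (Finset.ne_of_mem_erase hj)]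
  rw [op, op, h, mul_smul_comm, smul_mul_assoc]

theorem op_mul_op (i j : Fin t) (X Y : Matrix (Fin k) (Fin k) F) : op e P i X * op e P j Y =
    (P : Matrix ι ι F) * (pure' (Function.update (fun _ => (1 : Matrix (Fin k) (Fin k) F)) i X) *
      pure' (Function.update (fun _ => (1 : Matrix (Fin k) (Fin k) F)) j Y)).submatrix e e *
      ((P⁻¹ : GL ι F) : Matrix ι ι F) := by
  rw [← Matrix.submatrix_mul_equiv _ _ _ e]
  simp only [op, mul_assoc]
  rw [← mul_assoc ((P⁻¹ : GL ι F) : Matrix ι ι F), Units.inv_mul, one_mul]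

theorem op_comm {i j : Fin t} (h : i ≠ j) (X Y : Matrix (Fin k) (Fin k) F) :
    op e P i X * op e P j Y = op e P j Y * op e P i X := by
  rw [op_mul_op, op_mul_op, pure'_mul, pure'_mul]
  congr 4
  funext l
  by_cases h1 : l = i
  · subst h1; simp [Function.update_of_ne h]
  · simp [Function.update_of_ne h1]

variable {f₁ : (Fin k → F) → (Fin k → F) → F} {Q : QuadraticForm F (ι → F)}

theorem polar_pureV (hf : IsBilinearForm f₁) (hT : IsTensorPowerFormStructure id (polar ⇑Q) f₁ e P) :
    ∃ c : F, c ≠ 0 ∧ ∀ xs ys, polar Q (pureV e P xs) (pureV e P ys) = c * ∏ i, f₁ (xs i) (ys i) := by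
  obtain ⟨c, hc, h⟩ := hT
  refine ⟨c, hc, fun xs ys => ?_⟩
  rw [pureV, pureV, h]
  congr 1
  rw [Finset.prod_congr rfl fun i _ => congrFun (congrFun (bilinear_eq_gram hf) (xs i)) (ys i)]
  simp only [formOfGram, id_eq, RingEquiv.refl_apply]
  rw [Fintype.prod_sum]
  refine Finset.sum_congr rfl fun a _ => ?_
  rw [Fintype.prod_sum]
  refine Finset.sum_congr rfl fun b _ => ?_
  rw [Finset.prod_mul_distrib, Finset.prod_mul_distrib]

theorem conj_val (P : GL ι F) (x : GL (Fin t → Fin k) F) :
    (((MulAut.conj P).toMonoidHom ((glReindex e.symm).toMonoidHom x) : GL ι F) : Matrix ι ι F) =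
      (P : Matrix ι ι F) * ((x : Matrix (Fin t → Fin k) (Fin t → Fin k) F).submatrix e e) *
        ((P⁻¹ : GL ι F) : Matrix ι ι F) := by
  simp [glReindex, MulAut.conj_apply]

/-- A member sends pure tensors to pure tensors. -/
theorem member_pureV [Fintype F] {g : GL ι F} (hg : g ∈ tensorWreathSubgroup k t e P) :
    ∃ (π : Equiv.Perm (Fin t)) (A : Fin t → GL (Fin k) F), ∀ xs, (g : Matrix ι ι F) *ᵥ pureV e P xs =
      pureV e P (fun i => (A (π.symm i) : Matrix (Fin k) (Fin k) F) *ᵥ xs (π.symm i)) := by
  obtain ⟨_, ⟨x, hx, rfl⟩, rfl⟩ := hg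
  obtain ⟨π, A, rfl⟩ := AschbacherOrth.rep_of_mem hx
  refine ⟨π, A, fun xs => ?_⟩
  rw [conj_val, pureV, pureV, ← Matrix.mulVec_mulVec, ← Matrix.mulVec_mulVec, gl_inv_mulVec,
    Matrix.submatrix_mulVec_equiv, Function.comp_assoc, Equiv.self_comp_symm, Function.comp_id, Units.val_mul,
    ← Matrix.mulVec_mulVec]
  congr 2
  rw [show (pureGL A : Matrix (Fin t → Fin k) (Fin t → Fin k) F) *ᵥ (fun x => ∏ i, xs i (x i)) =
      fun x => ∏ i, ((A i : Matrix (Fin k) (Fin k) F) *ᵥ xs i) (x i) from pure'_mulVec _ xs]
  funext y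
  have hperm : ∀ w : (Fin t → Fin k) → F,
      ((permGL π : GL (Fin t → Fin k) F) : Matrix (Fin t → Fin k) (Fin t → Fin k) F) *ᵥ w = fun z => w (z ∘ π) :=
    fun w => funext fun z => by simp [permGL, Matrix.mulVec, dotProduct]
  rw [hperm]
  exact Fintype.prod_equiv π _ _ fun i => by simp

/-- Conjugation by a member permutes the slots. -/
theorem member_conj {α : Type*} (v : Module.Basis α F (ι → F)) (u : α → Fin t → Fin k → F)
    (hv : ∀ a, v a = pureV e P (u a)) {g : GL ι F} {π : Equiv.Perm (Fin t)} {A : Fin t → GL (Fin k) F}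
    (hgp : ∀ xs, (g : Matrix ι ι F) *ᵥ pureV e P xs =
      pureV e P (fun i => (A (π.symm i) : Matrix (Fin k) (Fin k) F) *ᵥ xs (π.symm i)))
    (i : Fin t) (X : Matrix (Fin k) (Fin k) F) :
    (g : Matrix ι ι F) * op e P i X * ((g⁻¹ : GL ι F) : Matrix ι ι F) =
      op e P (π i) ((A i : Matrix (Fin k) (Fin k) F) * X * ((A i)⁻¹ : GL (Fin k) F)) := by
  have e1 : (g : Matrix ι ι F) * op e P i X =
      op e P (π i) ((A i : Matrix (Fin k) (Fin k) F) * X * ((A i)⁻¹ : GL (Fin k) F)) * (g : Matrix ι ι F) := by
    refine Matrix.toLin'.injective (v.ext fun a => ?_)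
    simp only [Matrix.toLin'_apply]
    rw [hv, ← Matrix.mulVec_mulVec, ← Matrix.mulVec_mulVec, op_pureV, hgp, hgp, op_pureV]
    congr 1
    funext m
    by_cases hm : m = π i
    · subst hm
      simp only [Equiv.symm_apply_apply, Function.update_self, Matrix.mulVec_mulVec]
      congr 1
      simp [mul_assoc]
    · have hm' : π.symm m ≠ i := fun e' => hm (by rw [← e', Equiv.apply_symm_apply])
      rw [Function.update_of_ne hm, Function.update_of_ne hm']
  rw [e1, mul_assoc, Units.mul_inv, mul_one]

set_option maxHeartbeats 1600000 in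
theorem spin_not_maximal [Fintype F] (hQ : (polarBilin Q).Nondegenerate) (hn : 13 ≤ Fintype.card ι) (ht : 2 ≤ t)
    (hk : k ≤ 4) (hf : IsSymplecticForm f₁) (hT : IsTensorPowerFormStructure id (polar ⇑Q) f₁ e P)
    (hpure : ∀ xs, Q (pureV e P xs) = 0) :
    ∃ K : Subgroup (GL ι F), tensorWreathSubgroup k t e P ⊓ omegaGL ⇑Q < K ∧ K < omegaGL ⇑Q := by
  classical
  have hcardι : Fintype.card ι = k ^ t := by rw [Fintype.card_congr e]; simp
  have hk0 : 0 < k := Nat.pos_of_ne_zero fun h0 => by
    rw [h0, zero_pow (by omega)] at hcardι; omega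
  obtain ⟨l, hl, hkl, U, hU⟩ := exists_hyp_loc hf hk0 hk
  obtain ⟨c, hc, hpol⟩ := polar_pureV e P hf.bilinear hT
  let u : (Fin t × Fin l → Bool) → Fin t → Fin k → F := fun a i => U fun j => a (i, j)
  have hpair : ∀ a b, polar Q (pureV e P (u a)) (pureV e P (u b)) = if b = (fun p => !a p) then c else 0 := by
    intro a b
    rw [hpol]
    by_cases h : b = fun p => !a p
    · rw [if_pos h, Finset.prod_eq_one fun i _ => ?_, mul_one]
      rw [hU, if_pos]
      funext j
      rw [h]
    · rw [if_neg h]
      obtain ⟨⟨i, j⟩, hij⟩ := Function.ne_iff.1 h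
      rw [Finset.prod_eq_zero (Finset.mem_univ i) ?_, mul_zero]
      rw [hU, if_neg fun e' => hij (congrFun e' j)]
  have hli : LinearIndependent F fun a => pureV e P (u a) := by
    rw [Fintype.linearIndependent_iff]
    intro r hr b
    have h := congrArg (fun z => polarBilin Q z (pureV e P (u fun p => !b p))) hr
    simp only [map_sum, LinearMap.sum_apply, map_smul, LinearMap.smul_apply, polarBilin_apply_apply, hpair, map_zero,
      LinearMap.zero_apply] at h
    rw [Finset.sum_eq_single b (fun a _ ha => by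
      rw [if_neg fun e' => ha (funext fun p => by simpa using (congrFun e' p).symm), smul_zero]) (by simp)] at h
    simpa [hc] using h
  have hfin : Fintype.card (Fin t × Fin l → Bool) = Module.finrank F (ι → F) := by
    rw [Fintype.card_fun, Fintype.card_prod, Fintype.card_bool, Module.finrank_fintype_fun_eq_card, hcardι, hkl,
      Fintype.card_fin, Fintype.card_fin, ← pow_mul, mul_comm]
  haveI : Nonempty (Fin t × Fin l) := ⟨(⟨0, by omega⟩, ⟨0, by omega⟩)⟩
  let v : Module.Basis (Fin t × Fin l → Bool) F (ι → F) := basisOfLinearIndependentOfCardEqFinrank hli hfin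
  have hv : ∀ a, v a = pureV e P (u a) := fun a => by simp [v]
  have hH : Hyp v Q c := ⟨hc, fun a => by rw [hv]; exact hpure _, fun a b => by rw [hv, hv]; exact hpair a b⟩
  have hDop : ∀ i j ε, D v (i, j) ε = op e P i (D U j ε) := fun i j ε => ext_basis v fun a => by
    rw [hv a, op_pureV, ← hv a, D_apply]
    show _ = pureV e P (Function.update (u a) i (D U j ε *ᵥ U fun j' => a (i, j')))
    rw [D_apply]
    split_ifs with h
    · rw [pureV]
      refine (Eq.symm ?_)
      rw [show ((fun x : Fin t → Fin k => ∏ m, Function.update (u a) i 0 m (x m)) ∘ e) = 0 from funext fun x =>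
        Finset.prod_eq_zero (Finset.mem_univ i) (by simp), Matrix.mulVec_zero]
    · rw [hv]
      congr 1
      funext m
      by_cases hm : m = i
      · subst hm
        rw [Function.update_self]
        show U _ = U _
        congr 1
        funext j'
        simp [Function.update_apply]
      · rw [Function.update_of_ne hm]
        show U _ = U _
        congr 1
        funext j'
        simp [hm]
  have hopW : ∀ i Y, Y ∈ Submodule.span F (insert 1 (Set.range fun p : Fin l × Bool => D U p.1 p.2)) →
      op e P i Y ∈ W v := by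
    intro i Y hY
    induction hY using Submodule.span_induction with
    | mem X hX =>
      rcases hX with rfl | ⟨⟨j, ε⟩, rfl⟩
      · rw [op_one]; exact Submodule.subset_span (Or.inl rfl)
      · rw [← hDop]; exact D_mem v _ _
    | zero =>
      rw [show (0 : Matrix (Fin k) (Fin k) F) = (0 : F) • 1 from (zero_smul F _).symm, op_smul, zero_smul]
      exact (W v).zero_mem
    | add X Y _ _ hX hY => rw [op_add]; exact (W v).add_mem hX hY
    | smul r X _ hX => rw [op_smul]; exact (W v).smul_mem r hX
  have hconj : ∀ g ∈ tensorWreathSubgroup k t e P, ∃ (π : Equiv.Perm (Fin t)) (A : Fin t → GL (Fin k) F),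
      (∀ xs, (g : Matrix ι ι F) *ᵥ pureV e P xs =
        pureV e P (fun i => (A (π.symm i) : Matrix (Fin k) (Fin k) F) *ᵥ xs (π.symm i))) ∧
      ∀ i X, (g : Matrix ι ι F) * op e P i X * ((g⁻¹ : GL ι F) : Matrix ι ι F) =
        op e P (π i) ((A i : Matrix (Fin k) (Fin k) F) * X * ((A i)⁻¹ : GL (Fin k) F)) := fun g hg => by
    obtain ⟨π, A, hgp⟩ := member_pureV e P hg
    exact ⟨π, A, hgp, fun i X => member_conj e P v u hv hgp i X⟩
  have hle : tensorWreathSubgroup k t e P ⊓ omegaGL ⇑Q ≤ conjStab (W v) := by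
    intro g hg
    have step : ∀ g ∈ tensorWreathSubgroup k t e P ⊓ omegaGL ⇑Q, ∀ p ε,
        (g : Matrix ι ι F) * D v p ε * ((g⁻¹ : GL ι F) : Matrix ι ι F) ∈ W v := by
      rintro g ⟨hgH, hgO⟩ ⟨i, j⟩ ε
      obtain ⟨π, A, hgp, hop⟩ := hconj g hgH
      rw [hDop, hop]
      refine hopW _ _ (loc_span hf hl hU ?_)
      obtain ⟨⟨d, hd⟩, halt⟩ := locCond_D hf hU j ε
      refine ⟨⟨d, ?_⟩, fun hl2 x => ?_⟩
      · calc _ = (A i : Matrix (Fin k) (Fin k) F) * (D U j ε * D U j ε) * ((A i)⁻¹ : GL (Fin k) F) := by
              simp only [mul_assoc]; rw [← mul_assoc ((A i)⁻¹ : GL (Fin k) F).val, Units.inv_mul, one_mul]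
          _ = _ := by rw [hd, mul_smul_comm, mul_one, smul_mul_assoc, Units.mul_inv]
      · -- the factor is a similitude
        let p₀ : Fin k → F := U fun _ => false
        let q₀ : Fin k → F := U fun _ => true
        have hpq : f₁ p₀ q₀ = 1 := (hU _ _).trans (if_pos (funext fun _ => rfl))
        set m := ∏ i' ∈ Finset.univ.erase i, f₁ ((A i' : Matrix (Fin k) (Fin k) F) *ᵥ p₀) ((A i' : Matrix (Fin k) (Fin k) F) *ᵥ q₀)
        have hsim : ∀ y z, f₁ ((A i : Matrix (Fin k) (Fin k) F) *ᵥ y) ((A i : Matrix (Fin k) (Fin k) F) *ᵥ z) * m = f₁ y z := by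
          intro y z
          have h := polar_of_omega hgO (pureV e P (Function.update (fun _ => p₀) i y))
            (pureV e P (Function.update (fun _ => q₀) i z))
          rw [hgp, hgp, hpol, hpol] at h
          have h2 := mul_left_cancel₀ hc h
          rw [Equiv.prod_comp π.symm (fun i' => f₁ ((A i' : Matrix (Fin k) (Fin k) F) *ᵥ Function.update (fun _ => p₀) i y i')
            ((A i' : Matrix (Fin k) (Fin k) F) *ᵥ Function.update (fun _ => q₀) i z i')),
            ← Finset.mul_prod_erase _ _ (Finset.mem_univ i), ← Finset.mul_prod_erase _ _ (Finset.mem_univ i),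
            Function.update_self, Function.update_self] at h2
          have e1 : ∏ i' ∈ Finset.univ.erase i, f₁ (Function.update (fun _ => p₀) i y i') (Function.update (fun _ => q₀) i z i') = 1 :=
            Finset.prod_eq_one fun i' hi' => by
              rw [Function.update_of_ne (Finset.ne_of_mem_erase hi'), Function.update_of_ne (Finset.ne_of_mem_erase hi'), hpq]
          rw [e1, mul_one] at h2
          rw [← h2]
          congr 1
          refine Finset.prod_congr rfl fun i' hi' => ?_
          rw [Function.update_of_ne (Finset.ne_of_mem_erase hi'), Function.update_of_ne (Finset.ne_of_mem_erase hi')]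
        have hm : m ≠ 0 := fun h0 => by
          have := hsim p₀ q₀
          rw [h0, mul_zero, hpq] at this
          exact zero_ne_one this
        have h := hsim (D U j ε *ᵥ (((A i)⁻¹ : GL (Fin k) F) : Matrix (Fin k) (Fin k) F) *ᵥ x)
          ((((A i)⁻¹ : GL (Fin k) F) : Matrix (Fin k) (Fin k) F) *ᵥ x)
        rw [halt hl2, gl_mulVec_inv, Matrix.mulVec_mulVec, Matrix.mulVec_mulVec] at h
        exact (mul_eq_zero.1 h).resolve_right hm
    exact mem_conjStab_of_gen v (step g hg) fun p ε => by simpa using step g⁻¹ (inv_mem hg) p ε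
  -- the witnesses
  have hT4 : 4 ≤ Fintype.card (Fin t × Fin l) := by
    by_contra hlt
    push Not at hlt
    have : Fintype.card ι ≤ 2 ^ 3 := by
      rw [hcardι, hkl, ← pow_mul]
      exact Nat.pow_le_pow_right two_pos (by simp at hlt; rw [mul_comm]; omega)
    omega
  let i₀ : Fin t := ⟨0, by omega⟩
  let i₁ : Fin t := ⟨1, by omega⟩
  let j₀ : Fin l := ⟨0, by omega⟩
  have h01 : (i₀, j₀) ≠ (i₁, j₀) := by simp [i₀, i₁]
  obtain ⟨pm, hpm, hpm'⟩ : ∃ p : Fin t × Fin l, (i₀, j₀) ≠ p ∧ (i₁, j₀) ≠ p := by
    by_contra hall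
    push Not at hall
    have : (Finset.univ : Finset (Fin t × Fin l)) ⊆ {(i₀, j₀), (i₁, j₀)} := fun p _ => by
      by_cases h : (i₀, j₀) = p
      · simp [← h]
      · simp [← hall p h]
    have := (Finset.card_le_card this).trans Finset.card_le_two
    rw [Finset.card_univ] at this
    omega
  obtain ⟨g, hgO, hge⟩ := exists_two hH h01 hpm hpm'
  obtain ⟨em⟩ := Function.Embedding.nonempty_of_card_le (α := Fin 4) (β := Fin t × Fin l) (by simpa using hT4)
  have hem : ∀ a b : Fin 4, a ≠ b → em a ≠ em b := fun a b h => em.injective.ne h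
  obtain ⟨h, hhO, hhe⟩ := exists_three hH (hem 0 1 (by decide)) (hem 0 2 (by decide)) (hem 1 2 (by decide))
    (hem 0 3 (by decide)) (hem 1 3 (by decide)) (hem 2 3 (by decide))
  obtain ⟨hgK, hgY, hginv⟩ := two_mem v h01 hge
  refine between hle hgK hgO ?_ hhO
    (three_not_mem v hH (hem 0 1 (by decide)) (hem 0 2 (by decide)) (hem 1 2 (by decide)) hhe)
  intro hgH
  obtain ⟨π, A, -, hop⟩ := hconj g hgH
  have hm := hop i₀ (D U j₀ false)
  rw [← hDop, hginv, hgY, hDop, hDop] at hm
  have one_ne : (1 : Matrix ι ι F) ≠ 0 := by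
    haveI : Nonempty ι := Fintype.card_pos_iff.1 (by omega)
    exact one_ne_zero
  have e2 : ∀ M : Matrix ι ι F, M + M = 0 := fun M => by rw [← two_smul F, CharTwo.two_eq_zero, zero_smul]
  have hne : i₀ ≠ i₁ := by simp [i₀, i₁]
  have anti : ∀ i, op e P i (D U j₀ false) * op e P i (D U j₀ true) + op e P i (D U j₀ true) * op e P i (D U j₀ false) = 1 :=
    fun i => by
      rw [← hDop, ← hDop]
      have := D_anti v (i, j₀) false
      rw [Bool.not_false] at this
      exact this
  generalize (A i₀ : Matrix (Fin k) (Fin k) F) * D U j₀ false * ((A i₀)⁻¹ : GL (Fin k) F) = Z at hm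
  refine one_ne ?_
  by_cases hcase : π i₀ = i₀
  · have hc' := op_comm e P (show π i₀ ≠ i₁ by rw [hcase]; exact hne) Z (D U j₀ false)
    rw [← hm] at hc'
    calc (1 : Matrix ι ι F)
        = op e P i₁ (D U j₀ false) * op e P i₁ (D U j₀ true) + op e P i₁ (D U j₀ true) * op e P i₁ (D U j₀ false) :=
          (anti i₁).symm
      _ = (op e P i₀ (D U j₀ false) + op e P i₁ (D U j₀ true)) * op e P i₁ (D U j₀ false) +
          op e P i₁ (D U j₀ false) * (op e P i₀ (D U j₀ false) + op e P i₁ (D U j₀ true)) := by
            rw [add_mul, mul_add, op_comm e P hne]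
            calc _ = op e P i₁ (D U j₀ false) * op e P i₁ (D U j₀ true) + op e P i₁ (D U j₀ true) * op e P i₁ (D U j₀ false) +
                (op e P i₁ (D U j₀ false) * op e P i₀ (D U j₀ false) + op e P i₁ (D U j₀ false) * op e P i₀ (D U j₀ false)) := by
                  rw [e2, add_zero]
              _ = _ := by abel
      _ = 0 := by rw [hc', e2]
  · have hc' := op_comm e P hcase Z (D U j₀ true)
    rw [← hm] at hc'
    calc (1 : Matrix ι ι F)
        = op e P i₀ (D U j₀ false) * op e P i₀ (D U j₀ true) + op e P i₀ (D U j₀ true) * op e P i₀ (D U j₀ false) :=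
          (anti i₀).symm
      _ = (op e P i₀ (D U j₀ false) + op e P i₁ (D U j₀ true)) * op e P i₀ (D U j₀ true) +
          op e P i₀ (D U j₀ true) * (op e P i₀ (D U j₀ false) + op e P i₁ (D U j₀ true)) := by
            rw [add_mul, mul_add, op_comm e P hne.symm]
            calc _ = op e P i₀ (D U j₀ false) * op e P i₀ (D U j₀ true) + op e P i₀ (D U j₀ true) * op e P i₀ (D U j₀ false) +
                (op e P i₀ (D U j₀ true) * op e P i₁ (D U j₀ true) + op e P i₀ (D U j₀ true) * op e P i₁ (D U j₀ true)) := by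
                  rw [e2, add_zero]
              _ = _ := by abel
      _ = 0 := by rw [hc', e2]

end CfsgLib.NotMax.Spin
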