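import Cfsg.Agent.Lib.NotMax.TensorTv
import Cfsg.Agent.Lib.NotMax.LinesSmall
import Cfsg.Agent.Lib.AschbacherOrth.Tensor
import Cfsg.Agent.Lib.AschbacherOrth.Proper
import Cfsg.Agent.Lib.AschbacherOrth.EvenTensor
import Cfsg.Agent.Lib.OrthMax.Basic

/-!
`O₃ ⊗ O` over three elements lies in the stabiliser of a splitting into three parts.
-/

set_option autoImplicit false
set_option linter.unusedSectionVars false

namespace CfsgLib.NotMax

open QuadraticMap Cfsg Cfsg.Geo CfsgLib.Geometry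
open CfsgLib.AschbacherForm (coordR)
open CfsgLib.Aschbacher (bilinear_eq_gram)
open CfsgLib.AschbacherForm.Cases (ternary_diag form_pure)
open CfsgLib.AschbacherOrth (pureVec mulVec_pureVec pureVec_add_right pureVec_smul_right pureVec_smul_left
  pureVec_add_left monomial_three sie)
open scoped Matrix MatrixGroups Kronecker

universe u
variable {F : Type u} [Field F] [Fintype F] {ι : Type} [Fintype ι] [DecidableEq ι]
variable {Q : QuadraticForm F (ι → F)}

theorem polar_pure {n₁ n₂ : ℕ} {e : ι ≃ Fin n₁ × Fin n₂} {P : GL ι F}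
    {f₁ : (Fin n₁ → F) → (Fin n₁ → F) → F} {f₂ : (Fin n₂ → F) → (Fin n₂ → F) → F}
    (hf₁ : IsBilinearForm f₁) (hf₂ : IsBilinearForm f₂)
    (hT : IsTensorFormStructure id (polar ⇑Q) f₁ f₂ e P) :
    ∃ c : F, c ≠ 0 ∧ ∀ x x' y y', polar Q (pureVec e P x y) (pureVec e P x' y') = c * (f₁ x x' * f₂ y y') := by
  obtain ⟨c, hc, h⟩ := hT
  refine ⟨c, hc, fun x x' y y' => ?_⟩
  rw [pureVec, pureVec, h, form_pure]
  congr 2
  · exact (congrFun (congrFun (bilinear_eq_gram hf₁) x) x').symm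
  · exact (congrFun (congrFun (bilinear_eq_gram hf₂) y) y').symm

theorem orth_tensor_three_not_maximal (hQ : (polarBilin Q).Nondegenerate) (hn : 13 ≤ Fintype.card ι)
    (hq : Fintype.card F = 3) {n₂ : ℕ} (h4 : 4 ≤ n₂) (e : ι ≃ Fin 3 × Fin n₂) (P : GL ι F)
    {f₁ : (Fin 3 → F) → (Fin 3 → F) → F} {f₂ : (Fin n₂ → F) → (Fin n₂ → F) → F}
    (hf₁ : IsSymmetricForm f₁) (hf₂ : IsSymmetricForm f₂)
    (hT : IsTensorFormStructure id (polar ⇑Q) f₁ f₂ e P) :
    ∃ K : Subgroup (GL ι F), tensorProductSubgroup 3 n₂ e P ⊓ omegaGL ⇑Q < K ∧ K < omegaGL ⇑Q := by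
  classical
  obtain ⟨c, hc, hpol⟩ := polar_pure hf₁.bilinear hf₂.bilinear hT
  obtain ⟨U, d, hd, hU⟩ := ternary_diag hq hf₁
  let Um : Matrix (Fin 3) (Fin 3) F := (U : Matrix (Fin 3) (Fin 3) F)
  let z : Fin 3 → Fin 3 → F := fun i a => Um a i
  have hcol : ∀ M N : Matrix (Fin 3) (Fin 3) F, ∀ i j,
      f₁ (fun a => M a i) (fun a => N a j) = (Mᵀ * gramMatrix f₁ * N) i j := by
    intro M N i j
    rw [congrFun (congrFun (bilinear_eq_gram hf₁.bilinear) _) _]
    simp only [formOfGram, id_eq, RingEquiv.refl_apply, Matrix.mul_apply, Matrix.transpose_apply, Finset.sum_mul]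
    exact Finset.sum_comm
  have hz : ∀ i j, f₁ (z i) (z j) = if i = j then d else 0 := fun i j => by
    rw [hcol, hU]
    simp [Matrix.one_apply]
  let L : Fin 3 → (Fin n₂ → F) →ₗ[F] (ι → F) := fun i =>
    { toFun := fun y => pureVec e P (z i) y
      map_add' := fun y y' => pureVec_add_right e P _ y y'
      map_smul' := fun r y => pureVec_smul_right e P r _ y }
  have hL : ∀ i y, L i y = pureVec e P (z i) y := fun _ _ => rfl
  have hLL : ∀ i j y y', polar Q (L i y) (L j y') = if i = j then c * d * f₂ y y' else 0 := fun i j y y' => by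
    rw [hL, hL, hpol, hz]
    split_ifs <;> ring
  have hinj : ∀ i, Function.Injective (L i) := fun i => (injective_iff_map_eq_zero _).2 fun y hy => by
    by_contra hne
    obtain ⟨⟨x, hx⟩, -⟩ := hf₂.nondegenerate y hne
    have := hLL i i x y
    rw [hy, polar_zero_right, if_pos rfl] at this
    exact mul_ne_zero (mul_ne_zero hc hd) hx this.symm
  let D : Fin 3 → Submodule F (ι → F) := fun i => LinearMap.range (L i)
  have horth : ∀ i j, i ≠ j → AreOrthogonalFor (polar ⇑Q) (D i) (D j) := by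
    rintro i j hij _ ⟨y, rfl⟩ _ ⟨y', rfl⟩
    rw [hLL, if_neg hij]
  have hnd : ∀ i, IsNondegenerateOn (polar ⇑Q) (D i) := by
    rintro i _ ⟨y, rfl⟩ h0
    obtain ⟨⟨x, hx⟩, ⟨x', hx'⟩⟩ := hf₂.nondegenerate y fun e => h0 (by rw [e, map_zero])
    exact ⟨⟨_, ⟨x, rfl⟩, by rw [hLL, if_pos rfl]; exact mul_ne_zero (mul_ne_zero hc hd) hx⟩,
      ⟨_, ⟨x', rfl⟩, by rw [hLL, if_pos rfl]; exact mul_ne_zero (mul_ne_zero hc hd) hx'⟩⟩
  have hfr : ∀ i, Module.finrank F (D i) = n₂ := fun i => by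
    rw [LinearMap.finrank_range_of_inj (hinj i), Module.finrank_fin_fun]
  have hind : iSupIndep D := fun i => Submodule.disjoint_def.2 fun v hv hv' => by
    by_contra h0
    obtain ⟨⟨x, hx, hne⟩, -⟩ := hnd i v hv h0
    exact hne ((iSup₂_le fun j hj w hw => horth i j hj.symm x hx w hw :
      (⨆ (j) (_ : j ≠ i), D j) ≤ LinearMap.ker (polarBilin Q x)) hv')
  have hcard := Fintype.card_congr e
  simp only [Fintype.card_prod, Fintype.card_fin] at hcard
  have htop : iSup D = ⊤ := by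
    refine eq_top_iff.2 fun v _ => ?_
    let x : Fin 3 × Fin n₂ → F := ((↑P⁻¹ : Matrix ι ι F) *ᵥ v) ∘ e.symm
    have hv : v = ∑ i, L i (fun k => ∑ a, (↑U⁻¹ : Matrix (Fin 3) (Fin 3) F) i a * x (a, k)) := by
      simp only [hL, pureVec, ← Matrix.mulVec_sum]
      have : (∑ i, (fun p : Fin 3 × Fin n₂ =>
          z i p.1 * ∑ a, (↑U⁻¹ : Matrix (Fin 3) (Fin 3) F) i a * x (a, p.2)) ∘ e) = x ∘ e := by
        funext l
        simp only [Finset.sum_apply, Function.comp_apply]
        calc ∑ i, z i (e l).1 * ∑ a, (↑U⁻¹ : Matrix (Fin 3) (Fin 3) F) i a * x (a, (e l).2)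
            = ∑ a, (Um * (↑U⁻¹ : Matrix (Fin 3) (Fin 3) F)) (e l).1 a * x (a, (e l).2) := by
              simp only [Matrix.mul_apply, Finset.mul_sum, Finset.sum_mul, z]
              rw [Finset.sum_comm]
              exact Finset.sum_congr rfl fun k _ => Finset.sum_congr rfl fun i _ => by ring
          _ = x (e l) := by simp [Um, Matrix.one_apply]
      rw [this]
      simp [x, Function.comp_assoc, Matrix.mulVec_mulVec]
    rw [hv]
    exact Submodule.sum_mem _ fun i _ => Submodule.mem_iSup_of_mem i ⟨_, rfl⟩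
  have hD : IsMDecomposition n₂ D := ⟨by norm_num, by omega, hfr, hind, htop⟩
  have hyy : ∀ y : Fin n₂ → F, y ≠ 0 → ∃ x, f₂ y x ≠ 0 := fun y hy => (hf₂.nondegenerate y hy).2
  let ys : Fin n₂ → F := Pi.single ⟨0, by omega⟩ 1
  have hys : ys ≠ 0 := by simp [ys]
  -- the tensor stabiliser permutes the parts
  have hle : tensorProductSubgroup 3 n₂ e P ⊓ omegaGL ⇑Q ≤ decompositionStabilizer D := by
    rintro g ⟨hg, hgO⟩
    obtain ⟨A, B, hAB⟩ := tensor_coord hg
    obtain ⟨x, hx⟩ := hyy ys hys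
    set y₁ := (↑B⁻¹ : Matrix (Fin n₂) (Fin n₂) F) *ᵥ ys
    set y₂ := (↑B⁻¹ : Matrix (Fin n₂) (Fin n₂) F) *ᵥ ((f₂ ys x)⁻¹ • x)
    have hB1 : f₂ ((B : Matrix (Fin n₂) (Fin n₂) F) *ᵥ y₁) ((B : Matrix (Fin n₂) (Fin n₂) F) *ᵥ y₂) = 1 := by
      simp only [y₁, y₂, Matrix.mulVec_mulVec, Units.mul_inv, Matrix.one_mulVec, hf₂.bilinear.smul_right]
      exact inv_mul_cancel₀ hx
    set T := (↑U⁻¹ : Matrix (Fin 3) (Fin 3) F) * (A : Matrix (Fin 3) (Fin 3) F) * Um
    have hUT : Um * T = (A : Matrix (Fin 3) (Fin 3) F) * Um := by simp [T, Um, mul_assoc]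
    have hTT : Tᵀ * T = f₂ y₁ y₂ • (1 : Matrix (Fin 3) (Fin 3) F) := by
      have h1 : (Um * T)ᵀ * gramMatrix f₁ * (Um * T) = d • (f₂ y₁ y₂ • (1 : Matrix (Fin 3) (Fin 3) F)) := by
        ext i j
        rw [← hcol, hUT]
        have := polar_of_omega hgO (L i y₁) (L j y₂)
        rw [hLL, hL, hL, mulVec_pureVec e P g hAB, mulVec_pureVec e P g hAB, hpol, hB1, mul_one] at this
        have h2 : f₁ ((A : Matrix (Fin 3) (Fin 3) F) *ᵥ z i) ((A : Matrix (Fin 3) (Fin 3) F) *ᵥ z j) =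
            if i = j then d * f₂ y₁ y₂ else 0 := mul_left_cancel₀ hc (by
          rw [this]; split_ifs <;> ring)
        have e1 : ∀ i, (A : Matrix (Fin 3) (Fin 3) F) *ᵥ z i = fun a => ((A : Matrix (Fin 3) (Fin 3) F) * Um) a i := fun i => rfl
        rw [e1, e1] at h2
        rw [h2]
        simp [Matrix.one_apply]
      rw [Matrix.transpose_mul, show Tᵀ * Umᵀ * gramMatrix f₁ * (Um * T) = Tᵀ * (Umᵀ * gramMatrix f₁ * Um) * T by
        simp only [mul_assoc], hU, Matrix.mul_smul, Matrix.smul_mul, mul_one] at h1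
      exact smul_right_injective _ hd h1
    have hdet : T.det ≠ 0 := by
      simp only [T, Um, Matrix.det_mul]
      exact mul_ne_zero (mul_ne_zero ((Matrix.isUnit_iff_isUnit_det _).1 (Units.isUnit _)).ne_zero
        ((Matrix.isUnit_iff_isUnit_det _).1 (Units.isUnit _)).ne_zero)
        ((Matrix.isUnit_iff_isUnit_det _).1 (Units.isUnit _)).ne_zero
    choose σ hσ using fun i => monomial_three hq hTT hdet i
    have key : ∀ i y, (g : Matrix ι ι F) *ᵥ L i y =
        L (σ i) (T (σ i) i • ((B : Matrix (Fin n₂) (Fin n₂) F) *ᵥ y)) := fun i y => by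
      rw [hL, mulVec_pureVec e P g hAB, hL, pureVec_smul_right, ← pureVec_smul_left]
      congr 1
      funext a
      have h1 := congrFun (congrFun hUT a) i
      rw [Matrix.mul_apply, Finset.sum_eq_single (σ i) (fun k _ hk => by rw [hσ i k hk, mul_zero]) (by simp)] at h1
      show ((A : Matrix (Fin 3) (Fin 3) F) * Um) a i = _
      rw [← h1, Pi.smul_apply, smul_eq_mul, mul_comm]
    have hmap : ∀ i, (D i).map (Matrix.toLin' (g : Matrix ι ι F)) = D (σ i) := fun i => by
      have hgi : Function.Injective (Matrix.toLin' (g : Matrix ι ι F)) := by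
        rw [Matrix.toLin'_apply']; exact Matrix.mulVec_injective_of_isUnit g.isUnit
      refine Submodule.eq_of_le_of_finrank_eq ?_ ?_
      · rintro _ ⟨_, ⟨y, rfl⟩, rfl⟩
        exact ⟨_, (key i y).symm.trans (Matrix.toLin'_apply _ _).symm⟩
      · rw [← (Submodule.equivMapOfInjective _ hgi _).finrank_eq, hfr, hfr]
    have hσinj : Function.Injective σ := fun i j hij => by
      have h1 : D i = D j := Submodule.map_injective_of_injective
        (show Function.Injective (Matrix.toLin' (g : Matrix ι ι F)) by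
          rw [Matrix.toLin'_apply']; exact Matrix.mulVec_injective_of_isUnit g.isUnit)
        (by rw [hmap, hmap, hij])
      by_contra hne
      obtain ⟨y, hy⟩ := hyy ys hys
      have := horth i j hne (L i ys) ⟨ys, rfl⟩ (L i y) (h1 ▸ ⟨y, rfl⟩)
      rw [hLL, if_pos rfl] at this
      exact mul_ne_zero (mul_ne_zero hc hd) hy this
    exact ⟨Equiv.ofBijective σ (Finite.injective_iff_bijective.1 hσinj), hmap⟩
  -- an element of the larger group
  obtain ⟨u, f, hu, hf, hQu, hQf, huf⟩ := OrthMax.exists_pair_of_radical (Q := Q) (D 0) (by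
    have h0 : D 0 ⊓ polarPerp Q (D 0) = ⊥ := by
      rw [eq_bot_iff]
      rintro v ⟨hv, hv'⟩
      by_contra hne
      obtain ⟨⟨x, hx, hx0⟩, -⟩ := hnd 0 v hv hne
      exact hx0 (mem_polarPerp.1 hv' x hx)
    rw [h0, finrank_bot, hfr]
    omega)
  obtain ⟨a, ha, ha0⟩ : ∃ a ∈ LinearMap.ker (((polarBilin Q u).prod (polarBilin Q f)).comp (D 0).subtype), a ≠ 0 := by
    refine (Submodule.ne_bot_iff _).1 fun e' => ?_
    have h1 := (((polarBilin Q u).prod (polarBilin Q f)).comp (D 0).subtype).finrank_range_add_finrank_ker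
    rw [e', finrank_bot, hfr] at h1
    have h2 := (LinearMap.range (((polarBilin Q u).prod (polarBilin Q f)).comp (D 0).subtype)).finrank_le
    rw [Module.finrank_prod, Module.finrank_self] at h2
    omega
  have hua : polar Q u (a : ι → F) = 0 := congrArg Prod.fst (LinearMap.mem_ker.1 ha)
  have hfa : polar Q f (a : ι → F) = 0 := congrArg Prod.snd (LinearMap.mem_ker.1 ha)
  obtain ⟨g, hgO, hg⟩ := exists_siegel hQ (by omega) hQu hua
  have hg1 : ∀ i, i ≠ 0 → ∀ v ∈ D i, (g : Matrix ι ι F) *ᵥ v = v := fun i hi v hv => by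
    simp [hg, horth i 0 hi v hv u hu, horth i 0 hi v hv (a : ι → F) a.2]
  have hgu : (g : Matrix ι ι F) *ᵥ u = u := by
    simp [hg, polar_self', hQu, hua]
  have hgf : (g : Matrix ι ι F) *ᵥ f ≠ f := fun h => by
    rw [hg, polar_comm Q f u, huf, hfa, one_smul, mul_one, zero_add, add_sub_assoc, add_eq_left,
      sub_eq_zero] at h
    have := congrArg (fun v => polar Q v f) h
    simp only [polar_smul_left', huf, polar_comm Q (a : ι → F) f, hfa, mul_one] at this
    exact ha0 (Subtype.ext (by rw [h, ← this, zero_smul]; rfl))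
  refine between' hle (g := g) (mem_stab_of_parts fun i v hv => ?_) hgO ?_ ?_
  · by_cases hi : i = 0
    · subst hi
      rw [hg]
      exact (D 0).sub_mem ((D 0).add_mem hv ((D 0).smul_mem _ a.2)) ((D 0).smul_mem _ hu)
    · rw [hg1 i hi v hv]; exact hv
  · intro hmem
    obtain ⟨A, B, hAB⟩ := tensor_coord hmem
    have hgL : ∀ i y j y', polar Q ((g : Matrix ι ι F) *ᵥ L i y) (L j y') =
        c * (f₁ ((A : Matrix (Fin 3) (Fin 3) F) *ᵥ z i) (z j) * f₂ ((B : Matrix (Fin n₂) (Fin n₂) F) *ᵥ y) y') :=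
      fun i y j y' => by rw [hL, hL, mulVec_pureVec e P g hAB, hpol]
    have h1y : ∀ y j y', f₁ ((A : Matrix (Fin 3) (Fin 3) F) *ᵥ z 1) (z j) * f₂ ((B : Matrix (Fin n₂) (Fin n₂) F) *ᵥ y) y' =
        if (1 : Fin 3) = j then d * f₂ y y' else 0 := fun y j y' => by
      have h := hgL 1 y j y'
      rw [hg1 1 (by decide) _ ⟨y, rfl⟩, hLL] at h
      refine mul_left_cancel₀ hc (h.symm.trans ?_)
      split_ifs <;> ring
    obtain ⟨x, hx⟩ := hyy ys hys
    set l := f₁ ((A : Matrix (Fin 3) (Fin 3) F) *ᵥ z 1) (z 1)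
    have hl : l ≠ 0 := fun h0 => by
      have := h1y ys 1 x
      rw [show f₁ ((A : Matrix (Fin 3) (Fin 3) F) *ᵥ z 1) (z 1) = 0 from h0, zero_mul, if_pos rfl] at this
      exact mul_ne_zero hd hx this.symm
    have hB : ∀ y y', f₂ ((B : Matrix (Fin n₂) (Fin n₂) F) *ᵥ y) y' = d / l * f₂ y y' := fun y y' => by
      have := h1y y 1 y'
      rw [if_pos rfl] at this
      rw [div_mul_eq_mul_div, eq_div_iff hl, mul_comm, this]
    obtain ⟨y₀, rfl⟩ := hu
    have hy₀ : y₀ ≠ 0 := fun h0 => by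
      rw [h0, map_zero, polar_zero_left] at huf; exact zero_ne_one huf
    obtain ⟨x₀, hx₀⟩ := hyy y₀ hy₀
    have hA0 : ∀ j, f₁ ((A : Matrix (Fin 3) (Fin 3) F) *ᵥ z 0) (z j) = if (0 : Fin 3) = j then l else 0 := fun j => by
      have h := hgL 0 y₀ j x₀
      rw [hgu, hLL, hB] at h
      split_ifs at h ⊢ with hj
      · field_simp at h
        linear_combination -h
      · simpa [hc, hd, hl, hx₀] using h.symm
    obtain ⟨y, rfl⟩ := hf
    refine hgf (sub_eq_zero.1 (hQ.1 _ fun v => ?_))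
    have hv : v ∈ iSup D := htop ▸ trivial
    induction hv using Submodule.iSup_induction' with
    | mem j v hv =>
      obtain ⟨y', rfl⟩ := hv
      rw [polarBilin_apply_apply, polar_sub_left, hgL, hLL, hA0, hB]
      split_ifs
      · field_simp; ring
      · ring
    | zero => rw [map_zero]
    | add v w _ _ h h' => rw [map_add, h, h', add_zero]
  · intro h
    exact AschbacherOrth.SiegelIn.not_decomp hQ (by omega) hD (Or.inl (by omega))
      (AschbacherOrth.siegelIn_of_omega_le hQ (by omega) h)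

end CfsgLib.NotMax
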