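import Cfsg.Agent.Lib.NotMax.Lines
import Cfsg.Agent.Lib.AschbacherForm.Cases.UnitTwo
import Cfsg.Agent.Lib.AschbacherForm.Cases.SympTensorTools

/-!
Tensor stabilisers contain no transvection; the symplectic and unitary tensor rows over small fields.
-/

set_option autoImplicit false
set_option linter.unusedSectionVars false

namespace CfsgLib.NotMax

open Cfsg Cfsg.Geo CfsgLib.Aschbacher CfsgLib.AschbacherForm CfsgLib.AschbacherForm.Cases
open CfsgLib.Maximal (tv tv_mulVec fvec stv stv_mulVec stv_mem_spGL sf_alt sf_exists)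
open scoped Matrix MatrixGroups Kronecker

variable {F : Type*} [Field F] {ι : Type} [Fintype ι] [DecidableEq ι]

/-- The factors of a member of a tensor stabiliser. -/
theorem tensor_coord {n₁ n₂ : ℕ} {e : ι ≃ Fin n₁ × Fin n₂} {P g : GL ι F}
    (hg : g ∈ tensorProductSubgroup n₁ n₂ e P) :
    ∃ (A : GL (Fin n₁) F) (B : GL (Fin n₂) F),
      coordR e P (g : Matrix ι ι F) = (A : Matrix (Fin n₁) (Fin n₁) F) ⊗ₖ (B : Matrix (Fin n₂) (Fin n₂) F) := by
  obtain ⟨_, ⟨k, ⟨a, b, hk⟩, rfl⟩, rfl⟩ := hg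
  refine ⟨a, b, ?_⟩
  rw [← hk, coordR_gl]
  congr 1
  refine Units.ext ?_
  ext i j
  simp [glReindex, mul_assoc]

/-- An element fixing a hyperplane pointwise, not the identity, is no Kronecker product. -/
theorem kron_not_rank_one {κ μ : Type} [Fintype κ] [DecidableEq κ] [Fintype μ] [DecidableEq μ]
    [Nontrivial κ] [Nontrivial μ] (A : GL κ F) (B : GL μ F) (a φ : κ × μ → F)
    (h : ∀ p p', (A : Matrix κ κ F) p.1 p'.1 * (B : Matrix μ μ F) p.2 p'.2 = (if p = p' then 1 else 0) + a p * φ p') :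
    a = 0 ∨ φ = 0 := by
  by_contra hc
  rw [not_or] at hc
  obtain ⟨⟨j₀, k₀⟩, ha⟩ : ∃ p, a p ≠ 0 := Function.ne_iff.1 hc.1
  obtain ⟨⟨j₁, k₁⟩, hφ⟩ : ∃ p, φ p ≠ 0 := Function.ne_iff.1 hc.2
  have hB : ∀ (u v : μ → F), ¬ (∀ k k', (B : Matrix μ μ F) k k' = u k * v k') := by
    intro u v huv
    obtain ⟨k, k', hkk⟩ := exists_pair_ne μ
    let x : μ → F := fun i => if i = k then v k' else if i = k' then -v k else 0
    have hBv : ∀ y : μ → F, (∑ i, v i * y i) = 0 → y = 0 := fun y hy =>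
      Matrix.mulVec_injective_of_isUnit B.isUnit (by
        funext i
        simp only [Matrix.mulVec, dotProduct, huv, mul_assoc, ← Finset.mul_sum, hy, mul_zero, Pi.zero_apply,
          Finset.sum_const_zero])
    have hx : x = 0 := hBv x (by
      rw [Finset.sum_eq_add k k' hkk (fun i _ hi => by simp [x, hi.1, hi.2]) (by simp) (by simp)]
      simp [x, hkk.symm]; ring)
    have e1 : v k' = 0 := by simpa [x] using congrFun hx k
    have h1 := hBv (Pi.single k' 1) (by simp [Pi.single_apply, e1])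
    simpa using congrFun h1 k'
  -- the first factor is diagonal
  have hdiag : ∀ i i', i ≠ i' → (A : Matrix κ κ F) i i' = 0 := by
    intro i i' hne
    by_contra hA
    refine hB (fun k => a (i, k) / (A : Matrix κ κ F) i i') (fun k' => φ (i', k')) fun k k' => ?_
    have := h (i, k) (i', k')
    rw [if_neg (by simp [hne]), zero_add] at this
    rw [div_mul_eq_mul_div, eq_div_iff hA, mul_comm, this]
  have hsame : j₀ = j₁ := by
    by_contra hne
    have := h (j₀, k₀) (j₁, k₁)
    rw [hdiag j₀ j₁ hne, zero_mul, if_neg (by simp [hne]), zero_add] at this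
    exact mul_ne_zero ha hφ this.symm
  subst hsame
  obtain ⟨j, hj⟩ := exists_ne j₀
  have haj : ∀ k, a (j, k) = 0 := fun k => by
    have := h (j, k) (j₀, k₁)
    rw [hdiag j j₀ hj, zero_mul, if_neg (by simp [hj]), zero_add] at this
    exact (mul_eq_zero.1 this.symm).resolve_right hφ
  have hAj : ∀ k k', (A : Matrix κ κ F) j j * (B : Matrix μ μ F) k k' = if k = k' then 1 else 0 := fun k k' => by
    have := h (j, k) (j, k')
    rw [haj, zero_mul, add_zero] at this
    simpa using this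
  have hA0 : (A : Matrix κ κ F) j j ≠ 0 := fun e => by
    obtain ⟨k, -, -⟩ := exists_pair_ne μ
    have := hAj k k
    simp [e] at this
  set s := (A : Matrix κ κ F) j₀ j₀ / (A : Matrix κ κ F) j j
  have hblock : ∀ k k', (if k = k' then s else 0) = (if k = k' then 1 else 0) + a (j₀, k) * φ (j₀, k') := fun k k' => by
    have := h (j₀, k) (j₀, k')
    simp only [Prod.mk.injEq, true_and] at this
    rw [← this]
    have h1 := hAj k k'
    split_ifs with hk <;> simp only [hk, if_true, if_false] at h1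
    · simp only [s]; rw [div_eq_iff hA0, mul_assoc, hk, mul_comm ((B : Matrix μ μ F) k' k') _, h1, mul_one]
    · rw [(mul_eq_zero.1 h1).resolve_left hA0, mul_zero]
  have hk01 : k₀ = k₁ := by
    by_contra hne
    have := hblock k₀ k₁
    rw [if_neg hne, if_neg hne, zero_add] at this
    exact mul_ne_zero ha hφ this.symm
  subst hk01
  obtain ⟨k, hk⟩ := exists_ne k₀
  have h1 := hblock k₀ k₀
  have h2 := hblock k k
  have h3 := hblock k k₀
  simp only [if_true, hk, if_false, zero_add] at h1 h2 h3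
  rw [(mul_eq_zero.1 h3.symm).resolve_right hφ, zero_mul, add_zero] at h2
  rw [h2] at h1
  exact mul_ne_zero ha hφ (by linear_combination -h1)

/-- A transvection is not in a tensor stabiliser. -/
theorem tv_not_tensor [Fintype F] {n₁ n₂ : ℕ} (h1 : 2 ≤ n₁) (h2 : 2 ≤ n₂) (e : ι ≃ Fin n₁ × Fin n₂) (P : GL ι F) {g : GL ι F}
    {a φ : ι → F} (ha : a ≠ 0) (hφ : φ ≠ 0) (hg : ∀ x, (g : Matrix ι ι F) *ᵥ x = x + (φ ⬝ᵥ x) • a) :
    g ∉ tensorProductSubgroup n₁ n₂ e P := fun hmem => by
  classical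
  obtain ⟨A, B, hAB⟩ := tensor_coord hmem
  haveI : Nontrivial (Fin n₁) := Fin.nontrivial_iff_two_le.2 h1
  haveI : Nontrivial (Fin n₂) := Fin.nontrivial_iff_two_le.2 h2
  let T : (Fin n₁ × Fin n₂ → F) → (ι → F) := fun y => (P : Matrix ι ι F) *ᵥ (y ∘ e)
  set a' : Fin n₁ × Fin n₂ → F := ((↑P⁻¹ : Matrix ι ι F) *ᵥ a) ∘ e.symm with ha'
  have hTa : T a' = a := by
    simp [T, ha', Function.comp_assoc, Matrix.mulVec_mulVec]
  have hTinj : Function.Injective T := fun x y hxy => by
    have := Matrix.mulVec_injective_of_isUnit P.isUnit hxy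
    funext p
    simpa using congrFun this (e.symm p)
  have hcol : ∀ p' : Fin n₁ × Fin n₂, ((A : Matrix (Fin n₁) (Fin n₁) F) ⊗ₖ (B : Matrix (Fin n₂) (Fin n₂) F)) *ᵥ
      Pi.single p' 1 = Pi.single p' 1 + (φ ⬝ᵥ T (Pi.single p' 1)) • a' := fun p' => hTinj (by
    show (P : Matrix ι ι F) *ᵥ _ = _
    rw [← hAB, ← coordR_mulVec, hg]
    show _ = (P : Matrix ι ι F) *ᵥ ((Pi.single p' 1 + (φ ⬝ᵥ T (Pi.single p' 1)) • a') ∘ e)
    rw [show ((Pi.single p' 1 + (φ ⬝ᵥ T (Pi.single p' 1)) • a') ∘ e) =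
        (Pi.single p' 1 : _ → F) ∘ e + (φ ⬝ᵥ T (Pi.single p' 1)) • (a' ∘ e) from rfl,
      Matrix.mulVec_add, Matrix.mulVec_smul]
    show _ = _ + _ • T a'
    rw [hTa])
  rcases kron_not_rank_one A B a' (fun p' => φ ⬝ᵥ T (Pi.single p' 1)) (fun p p' => by
      have := congrFun (hcol p') p
      simp only [Matrix.mulVec_single_one, Pi.add_apply, Pi.smul_apply, smul_eq_mul, Matrix.col_apply,
        Matrix.kroneckerMap_apply, Pi.single_apply] at this
      rw [this]; ring) with h0 | h0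
  · exact ha (by rw [← hTa, h0]; exact Matrix.mulVec_zero _)
  · refine hφ (funext fun i => ?_)
    let y : Fin n₁ × Fin n₂ → F := ((↑P⁻¹ : Matrix ι ι F) *ᵥ Pi.single i 1) ∘ e.symm
    have hy : T y = Pi.single i 1 := by
      show (P : Matrix ι ι F) *ᵥ ((((↑P⁻¹ : Matrix ι ι F) *ᵥ Pi.single i 1) ∘ e.symm) ∘ e) = _
      rw [Function.comp_assoc, Equiv.symm_comp_self, Function.comp_id, Matrix.mulVec_mulVec, Units.mul_inv, Matrix.one_mulVec]
    have hz : ∀ z : Fin n₁ × Fin n₂ → F, φ ⬝ᵥ T z = 0 := by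
      intro z
      rw [show z = ∑ p, z p • (Pi.single p 1 : Fin n₁ × Fin n₂ → F) from pi_eq_sum_univ' z]
      have hlin : ∀ z, φ ⬝ᵥ T z =
          ((dotProductBilin F F φ).comp ((Matrix.mulVecLin (P : Matrix ι ι F)).comp (LinearMap.funLeft F F e))) z :=
        fun z => rfl
      rw [hlin, map_sum]
      refine Finset.sum_eq_zero fun p _ => ?_
      rw [map_smul, ← hlin]
      have := congrFun h0 p
      simp only [Pi.zero_apply] at this
      rw [this, smul_zero]
    have := hz y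
    rw [hy, dotProduct_single, mul_one] at this
    exact this

/-- An element mapping every part into itself stabilises the decomposition. -/
theorem mem_stab_of_parts {t : ℕ} {D : Fin t → Submodule F (ι → F)} {g : GL ι F}
    (h : ∀ i, ∀ v ∈ D i, (g : Matrix ι ι F) *ᵥ v ∈ D i) : g ∈ decompositionStabilizer D := by
  refine ⟨1, fun i => ?_⟩
  have hinj : Function.Injective (Matrix.toLin' (g : Matrix ι ι F)) := by
    rw [Matrix.toLin'_apply']; exact Matrix.mulVec_injective_of_isUnit g.isUnit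
  refine Submodule.eq_of_le_of_finrank_eq ?_ (Submodule.equivMapOfInjective _ hinj _).finrank_eq.symm
  rintro _ ⟨v, hv, rfl⟩
  rw [Matrix.toLin'_apply]
  exact h i v hv

section rows

variable [Fintype F]

theorem sp_tensor_three_not_maximal (hF : Fintype.card F = 3) {m n₁ : ℕ} (hm : 7 ≤ m)
    (e : (Fin m ⊕ Fin m) ≃ Fin n₁ × Fin 3) (P : GL (Fin m ⊕ Fin m) F)
    {f₁ : (Fin n₁ → F) → (Fin n₁ → F) → F} {f₂ : (Fin 3 → F) → (Fin 3 → F) → F}
    (hf₁ : IsSymplecticForm f₁) (hf₂ : IsSymmetricForm f₂)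
    (hT : IsTensorFormStructure id (sympForm m F) f₁ f₂ e P) :
    ∃ K : Subgroup (GL (Fin m ⊕ Fin m) F),
      tensorProductSubgroup n₁ 3 e P ⊓ spGL m F < K ∧ K < spGL m F := by
  have hcard := Fintype.card_congr e
  simp only [Fintype.card_sum, Fintype.card_fin, Fintype.card_prod] at hcard
  obtain ⟨D, hD, hle⟩ := tensor_three_decomp hF (by omega) hf₁ hf₂ hT
  have hne : D 0 ≠ ⊥ := fun h0 => by
    have := hD.decomp.finrank_eq 0
    rw [h0, finrank_bot] at this
    omega
  obtain ⟨w, hw, hw0⟩ := Submodule.exists_mem_ne_zero_of_ne_bot hne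
  have hg : ∀ i, ∀ v ∈ D i, (stv (1 : F) w : Matrix _ _ F) *ᵥ v ∈ D i := by
    intro i v hv
    rw [stv_mulVec]
    by_cases hi : i = 0
    · exact (D i).add_mem hv ((D i).smul_mem _ (hi ▸ hw))
    · rw [hD.orthogonal i 0 hi v hv w hw, mul_zero, zero_smul, add_zero]; exact hv
  obtain ⟨y, hy⟩ := sf_exists w hw0
  refine between' hle (g := stv (1 : F) w) (mem_stab_of_parts hg) (stv_mem_spGL _ _) ?_ ?_
  · refine tv_not_tensor (by omega) (by omega) e P (a := (1 : F) • w) (φ := fvec (sympForm m F) w)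
      (by rwa [one_smul]) (fun h0 => ?_) (fun x => tv_mulVec _ _ _ x)
    have := CfsgLib.Maximal.sf_dot w y
    rw [h0, zero_dotProduct, CfsgLib.Maximal.sf_skew, hy] at this
    exact one_ne_zero (by linear_combination this : (1 : F) = 0)
  · exact not_le_decomposition (rich_sp (by omega)) (by omega) hD.decomp

theorem su_tensor_two_not_maximal (hF : Fintype.card F = 4) {n n₂ : ℕ} (hn : 13 ≤ n)
    (e : Fin n ≃ Fin 2 × Fin n₂) (P : GL (Fin n) F)
    {f₁ : (Fin 2 → F) → (Fin 2 → F) → F} {f₂ : (Fin n₂ → F) → (Fin n₂ → F) → F}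
    (hf₁ : IsUnitaryFormPow 2 f₁) (hf₂ : IsUnitaryFormPow 2 f₂)
    (hT : IsTensorFormStructure (fun x : F => x ^ 2) (hermForm n F 2) f₁ f₂ e P) :
    ∃ K : Subgroup (GL (Fin n) F),
      tensorProductSubgroup 2 n₂ e P ⊓ (GU n F 2 ⊓ specialLinear (Fin n) F) < K ∧
        K < (GU n F 2 ⊓ specialLinear (Fin n) F) := by
  have hcard := Fintype.card_congr e
  simp only [Fintype.card_fin, Fintype.card_prod] at hcard
  obtain ⟨τ, hU⟩ := exists_uform (F := F) (q := 2) (by omega) n
  obtain ⟨D, hD, hle⟩ := halves_of_tensor hU (by omega) hf₁ hf₂ hT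
  have hf := unitaryForm hU
  haveI : CharP F 2 := charP_of_card_eq_prime_pow (p := 2) (f := 2) (by rw [hF]; norm_num)
  -- an isotropic vector in the first part
  obtain ⟨w, hw, hw0, hww⟩ : ∃ w ∈ D 0, w ≠ 0 ∧ hermForm n F 2 w w = 0 := by
    by_contra hall
    push Not at hall
    have hone : ∀ x ∈ D 0, x ≠ 0 → hermForm n F 2 x x = 1 :=
      fun x hx hx0 => fixed_eq_one hU (hf.herm x x).symm (hall x hx hx0)
    obtain ⟨x, hx, hx0⟩ := Submodule.exists_mem_ne_zero_of_ne_bot (p := D 0) fun h0 => by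
      have := hD.decomp.finrank_eq 0
      rw [h0, finrank_bot] at this
      omega
    let L : D 0 →ₗ[F] F :=
      { toFun := fun z => hermForm n F 2 (z : Fin n → F) x
        map_add' := fun a b => hf.add_left _ _ _
        map_smul' := fun c a => hf.smul_left _ _ _ }
    obtain ⟨z, hz, hz0⟩ : ∃ z ∈ LinearMap.ker L, z ≠ 0 := by
      refine (Submodule.ne_bot_iff _).1 fun e' => ?_
      have h1 := L.finrank_range_add_finrank_ker
      rw [e', finrank_bot, hD.decomp.finrank_eq] at h1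
      have h2 := (LinearMap.range L).finrank_le
      rw [Module.finrank_self] at h2
      omega
    have hzx : hermForm n F 2 (z : Fin n → F) x = 0 := hz
    have hz0' : (z : Fin n → F) ≠ 0 := fun h => hz0 (Subtype.ext h)
    have hxz : hermForm n F 2 x (z : Fin n → F) = 0 := by rw [hf.herm, hzx, map_zero]
    refine hall ((z : Fin n → F) + x) ((D 0).add_mem z.2 hx) (fun h => ?_) ?_
    · rw [eq_neg_of_add_eq_zero_left h, ← neg_one_smul F x, hf.smul_left, hone x hx hx0] at hzx
      simp at hzx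
    · rw [hf.add_left, CfsgLib.Maximal.un_add_right hf, CfsgLib.Maximal.un_add_right hf, hzx, hxz,
        hone x hx hx0, hone _ z.2 hz0']
      simp [CharTwo.add_self_eq_zero]
  have hk : τ (1 : F) = -1 := by rw [map_one, CharTwo.neg_eq]
  set g := tv ((1 : F) • w) (fvec (hermForm n F 2) w) (CfsgLib.Maximal.un_tv_dot hf hww 1) with hgdef
  have hgS : g ∈ GU n F 2 ⊓ specialLinear (Fin n) F := CfsgLib.Maximal.utv_mem_su hf hww hk
  have hgp : ∀ i, ∀ v ∈ D i, (g : Matrix _ _ F) *ᵥ v ∈ D i := by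
    intro i v hv
    rw [hgdef, tv_mulVec, CfsgLib.Maximal.un_dot hf, one_smul]
    by_cases hi : i = 0
    · exact (D i).add_mem hv ((D i).smul_mem _ (hi ▸ hw))
    · rw [hD.orthogonal i 0 hi v hv w hw, zero_smul, add_zero]; exact hv
  refine between' (O := GU n F 2 ⊓ specialLinear (Fin n) F) ?_ (g := g) (mem_stab_of_parts hgp) hgS ?_ ?_
  · exact fun x hx => hle ⟨hx.1, hx.2.1⟩
  · refine tv_not_tensor le_rfl (by omega) e P (a := (1 : F) • w) (φ := fvec (hermForm n F 2) w)
      (by rwa [one_smul]) (fun h0 => hw0 ?_) (fun x => tv_mulVec _ _ _ x)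
    exact CfsgLib.Maximal.un_fvec_injective hf (by rw [h0, CfsgLib.Maximal.un_fvec_zero hf])
  · exact not_le_decomposition (rich_su hU (by omega)) (by omega) hD.decomp

end rows

end CfsgLib.NotMax
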